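import Cfsg.Agent.H494.R4.RegUni
import Cfsg.Agent.H610.OddThree
import Cfsg.Agent.H610.OddRegLie
import Cfsg.Agent.H610.OddReg3D4

/-!
# Real regular unipotent elements forming an odd number of classes (helper494, S4554)

The results of helper610 (`OddReg`, `OddRegLie`, `OddReg3D4`, `OddThree`) with the information that the elements are
`p`-elements, `p` the characteristic.
-/

set_option autoImplicit false
set_option linter.unusedSectionVars false

namespace Cfsg.Agent.H494.R4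

open Subgroup Cfsg Cfsg.Agent.H610.OddOC Cfsg.Agent.H610.OddReg

/-- A set of real `p`-elements `≠ 1`, stable under all automorphisms, forming an odd number of classes. -/
def OcSetP (p : ℕ) (N : Type*) [Group N] : Prop :=
  ∃ Y : Set N, (∀ a : MulAut N, ∀ y ∈ Y, a y ∈ Y) ∧
    (∀ y ∈ Y, y ≠ 1 ∧ (∃ k : ℕ, y ^ p ^ k = 1) ∧ IsConj y y⁻¹) ∧
    Odd (Nat.card {c : ConjClasses N // ∃ y ∈ Y, c = ConjClasses.mk y})

theorem OcSetP.of_equiv {p : ℕ} {N M : Type*} [Group N] [Group M] (e : N ≃* M) (h : OcSetP p N) : OcSetP p M := by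
  obtain ⟨Y, h1, h2, h3⟩ := h
  refine ⟨{z | e.symm z ∈ Y}, ?_, ?_, ?_⟩
  · intro a z hz
    have h4 := h1 ((e.trans a).trans e.symm) _ hz
    have h5 : ((e.trans a).trans e.symm) (e.symm z) = e.symm (a z) := by simp
    rw [h5] at h4
    exact h4
  · intro z hz
    obtain ⟨k1, ⟨k, k2⟩, k3⟩ := h2 _ hz
    refine ⟨?_, ⟨k, ?_⟩, ?_⟩
    · rintro rfl
      exact k1 (map_one _)
    · apply e.symm.injective
      rw [map_pow, k2, map_one]
    · rw [← map_inv, isConj_map_iff] at k3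
      exact k3
  · let f : {c : ConjClasses N // ∃ y ∈ Y, c = ConjClasses.mk y} →
        {c : ConjClasses M // ∃ y ∈ {z | e.symm z ∈ Y}, c = ConjClasses.mk y} := fun c =>
      ⟨ConjClasses.map e.toMonoidHom c.1, by
        obtain ⟨c, y, hy, rfl⟩ := c
        refine ⟨e y, ?_, rfl⟩
        show e.symm (e y) ∈ Y
        rwa [e.symm_apply_apply]⟩
    have hf : Function.Bijective f := by
      constructor
      · rintro ⟨c, y, hy, rfl⟩ ⟨d, z, hz, rfl⟩ hcd
        apply Subtype.ext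
        have h5 : ConjClasses.mk (e y) = ConjClasses.mk (e z) := congrArg Subtype.val hcd
        rw [ConjClasses.mk_eq_mk_iff_isConj, isConj_map_iff] at h5
        exact ConjClasses.mk_eq_mk_iff_isConj.2 h5
      · rintro ⟨d, z, hz, rfl⟩
        obtain ⟨x, rfl⟩ := e.surjective z
        refine ⟨⟨ConjClasses.mk x, x, ?_, rfl⟩, rfl⟩
        have : e.symm (e x) ∈ Y := hz
        rwa [e.symm_apply_apply] at this
    rw [← Nat.card_congr (Equiv.ofBijective f hf)]
    exact h3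

theorem OcSetP.of_ocAt {N : Type*} [Group N] {p : ℕ} (h : OcAt p N) : OcSetP p N := by
  obtain ⟨-, -, h3, h4⟩ := h
  exact ⟨Yset p N, fun a y hy => (mem_Yset_iff a y).2 hy, fun y hy => ⟨hy.1, hy.2.1, h3 y hy⟩, h4⟩

section Sylow

variable {N : Type*} [Group N] [Finite N] {p : ℕ}

/-- **The criterion.** -/
theorem ocSetP_of (hp : p.Prime) (hp2 : p ≠ 2) (U : Sylow p N) {B : Subgroup N} {R : Set N}
    (hRU : ∀ y ∈ R, y ∈ U) (h1 : (1 : N) ∉ R)
    (hr1 : ∀ y ∈ R, ∀ g : N, g⁻¹ * y * g ∈ U → g ∈ B)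
    (hB : ∀ b ∈ B, ∀ u ∈ U, b * u * b⁻¹ ∈ U)
    (hr2 : ∀ b ∈ B, ∀ y ∈ R, b * y * b⁻¹ ∈ R)
    (hr3 : ∀ y ∈ U, y ∉ R → ∃ g : N, g ∉ B ∧ g⁻¹ * y * g ∈ U)
    (hr4 : ∀ y ∈ R, Odd (Nat.card (centralizer ({y} : Set N)))) {a b : ℕ} (ha : Odd a) (hb : Odd b)
    (hab : a * Nat.card R = b * Nat.card B) : OcSetP p N := by
  classical
  have hfp : Fact p.Prime := ⟨hp⟩
  have hBfin : Nat.card B ≠ 0 := Nat.card_pos.ne'
  obtain ⟨y₀, hy₀⟩ : R.Nonempty := by
    rw [Set.nonempty_iff_ne_empty]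
    rintro rfl
    have h0 : Nat.card (∅ : Set N) = 0 := by simp
    rw [h0, mul_zero] at hab
    rcases mul_eq_zero.1 hab.symm with h | h
    · exact hb.pos.ne' h
    · exact hBfin h
  -- conjugates of `U`
  have hconj : ∀ (g x : N), x ∈ g • U ↔ g⁻¹ * x * g ∈ U := by
    intro g x
    show x ∈ ((g • U : Sylow p N) : Subgroup N) ↔ _
    rw [Sylow.coe_subgroup_smul, Subgroup.mem_pointwise_smul_iff_inv_smul_mem, ← map_inv,
      MulAut.smul_def, MulAut.conj_apply, inv_inv]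
    rfl
  have hBsmul : ∀ g : N, g • U = U → g ∈ B := by
    intro g hg
    apply hr1 y₀ hy₀
    rw [← hconj, hg]
    exact hRU y₀ hy₀
  have hsmulB : ∀ g ∈ B, g • U = U := by
    intro g hg
    apply Sylow.ext
    ext x
    show x ∈ g • U ↔ x ∈ U
    rw [hconj]
    constructor
    · intro h
      have h2 := hB g hg _ h
      have h3 : g * (g⁻¹ * x * g) * g⁻¹ = x := by group
      rwa [h3] at h2
    · intro h
      have h2 := hB g⁻¹ (inv_mem hg) _ h
      rwa [inv_inv] at h2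
  -- `R` is the set of elements contained in `U` only
  have hR1 : ∀ y ∈ R, ∀ Q : Sylow p N, y ∈ Q → Q = U := by
    intro y hy Q hyQ
    obtain ⟨g, rfl⟩ := MulAction.exists_smul_eq N U Q
    exact hsmulB g (hr1 y hy g ((hconj g y).1 hyQ))
  have hR2 : ∀ y ∈ U, (∀ Q : Sylow p N, y ∈ Q → Q = U) → y ∈ R := by
    intro y hy hQ
    by_contra hyR
    obtain ⟨g, hg, hyg⟩ := hr3 y hy hyR
    exact hg (hBsmul g (hQ (g • U) ((hconj g y).2 hyg)))
  have hOneR : ∀ z : N, z ∈ One p N ↔ ∃ g : N, g⁻¹ * z * g ∈ R := by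
    intro z
    constructor
    · rintro ⟨P, hP, hPu⟩
      obtain ⟨g, rfl⟩ := MulAction.exists_smul_eq N U P
      refine ⟨g, hR2 _ ((hconj g z).1 hP) fun Q hQ => ?_⟩
      have h2 : z ∈ g • Q := by
        show z ∈ ((g • Q : Sylow p N) : Subgroup N)
        rw [Sylow.coe_subgroup_smul, Subgroup.mem_pointwise_smul_iff_inv_smul_mem, ← map_inv,
          MulAut.smul_def, MulAut.conj_apply, inv_inv]
        exact hQ
      have h3 := hPu _ h2
      exact smul_left_cancel g h3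
    · rintro ⟨g, hg⟩
      refine ⟨g • U, (hconj g z).2 (hRU _ hg), fun Q hQ => ?_⟩
      have h2 : g⁻¹ * z * g ∈ g⁻¹ • Q := by
        show _ ∈ ((g⁻¹ • Q : Sylow p N) : Subgroup N)
        rw [Sylow.coe_subgroup_smul, Subgroup.mem_pointwise_smul_iff_inv_smul_mem, ← map_inv,
          MulAut.smul_def, MulAut.conj_apply, inv_inv]
        have h4 : g * (g⁻¹ * z * g) * g⁻¹ = z := by group
        rw [h4]
        exact hQ
      have h3 := hR1 _ hg _ h2
      rw [← h3, smul_inv_smul]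
  have hOneconj : ∀ z ∈ One p N, ∀ g : N, g * z * g⁻¹ ∈ One p N := by
    intro z hz g
    obtain ⟨k, hk⟩ := (hOneR z).1 hz
    refine (hOneR _).2 ⟨g * k, ?_⟩
    have h4 : (g * k)⁻¹ * (g * z * g⁻¹) * (g * k) = k⁻¹ * z * k := by group
    rw [h4]
    exact hk
  have hcent : ∀ z ∈ One p N, Odd (Nat.card (centralizer ({z} : Set N))) := by
    intro z hz
    obtain ⟨g, hg⟩ := (hOneR z).1 hz
    have h2 := hr4 _ hg
    have h3 : (MulAut.conj g⁻¹) z = g⁻¹ * z * g := by rw [MulAut.conj_apply, inv_inv]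
    rw [← h3, Nat.card_congr (centEquiv (MulAut.conj g⁻¹) z).symm] at h2
    exact h2
  -- the number of elements
  have hcount : Nat.card (One p N) * Nat.card B = Nat.card N * Nat.card R := by
    choose g₀ hg₀ using fun z : One p N => (hOneR z.1).1 z.2
    let f : One p N × B → N × R := fun x =>
      (g₀ x.1 * x.2.1, ⟨x.2.1⁻¹ * ((g₀ x.1)⁻¹ * x.1.1 * g₀ x.1) * x.2.1, by
        have h2 := hr2 x.2.1⁻¹ (inv_mem x.2.2) _ (hg₀ x.1)
        rwa [inv_inv] at h2⟩)
    have hf : Function.Bijective f := by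
      constructor
      · rintro ⟨⟨z, hz⟩, ⟨b, hb⟩⟩ ⟨⟨z', hz'⟩, ⟨b', hb'⟩⟩ h
        have e1 : g₀ ⟨z, hz⟩ * b = g₀ ⟨z', hz'⟩ * b' := congrArg Prod.fst h
        have e2 : b⁻¹ * ((g₀ ⟨z, hz⟩)⁻¹ * z * g₀ ⟨z, hz⟩) * b =
            b'⁻¹ * ((g₀ ⟨z', hz'⟩)⁻¹ * z' * g₀ ⟨z', hz'⟩) * b' :=
          congrArg (fun x : N × R => x.2.1) h
        have e3 : z = z' := by
          have e4 : z = (g₀ ⟨z, hz⟩ * b) *
              (b⁻¹ * ((g₀ ⟨z, hz⟩)⁻¹ * z * g₀ ⟨z, hz⟩) * b) * (g₀ ⟨z, hz⟩ * b)⁻¹ := by group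
          rw [e4, e2, e1]
          group
        subst e3
        have e5 : b = b' := mul_left_cancel e1
        subst e5
        rfl
      · rintro ⟨g, ⟨y, hy⟩⟩
        have hz : g * y * g⁻¹ ∈ One p N := by
          refine (hOneR _).2 ⟨g, ?_⟩
          have h4 : g⁻¹ * (g * y * g⁻¹) * g = y := by group
          rw [h4]
          exact hy
        set k := g₀ ⟨g * y * g⁻¹, hz⟩ with hk
        have h2 : k⁻¹ * (g * y * g⁻¹) * k ∈ R := hg₀ ⟨g * y * g⁻¹, hz⟩
        have hkB : k⁻¹ * g ∈ B := by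
          refine hr1 _ h2 _ ?_
          have h4 : (k⁻¹ * g)⁻¹ * (k⁻¹ * (g * y * g⁻¹) * k) * (k⁻¹ * g) = y := by group
          rw [h4]
          exact hRU y hy
        refine ⟨⟨⟨g * y * g⁻¹, hz⟩, ⟨k⁻¹ * g, hkB⟩⟩, ?_⟩
        refine Prod.ext ?_ (Subtype.ext ?_)
        · show k * (k⁻¹ * g) = g
          group
        · show (k⁻¹ * g)⁻¹ * (k⁻¹ * (g * y * g⁻¹) * k) * (k⁻¹ * g) = y
          group
    have h2 := Nat.card_congr (Equiv.ofBijective f hf)
    rwa [Nat.card_prod, Nat.card_prod] at h2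
  have hab' : a * Nat.card (One p N) = b * Nat.card N := by
    apply Nat.eq_of_mul_eq_mul_right (Nat.pos_of_ne_zero hBfin)
    calc a * Nat.card (One p N) * Nat.card B = a * (Nat.card (One p N) * Nat.card B) := by ring
      _ = Nat.card N * (a * Nat.card R) := by rw [hcount]; ring
      _ = b * Nat.card N * Nat.card B := by rw [hab]; ring
  have hodd := odd_real_classes (fun y hy => One.inv hy) (odd_classes hOneconj hcent ha hb hab')
  refine ⟨{y | y ∈ One p N ∧ IsConj y y⁻¹}, ?_, ?_, hodd⟩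
  · rintro α y ⟨⟨P, hP, hPu⟩, hy⟩
    refine ⟨?_, ?_⟩
    · have hmem : ∀ (β : MulAut N) (Q : Sylow p N) (x : N), x ∈ β • Q ↔ β⁻¹ x ∈ Q := by
        intro β Q x
        show x ∈ ((β • Q : Sylow p N) : Subgroup N) ↔ _
        rw [Sylow.pointwise_smul_def, Subgroup.mem_pointwise_smul_iff_inv_smul_mem]
        rfl
      refine ⟨α • P, (hmem _ _ _).2 ?_, fun Q hQ => ?_⟩
      · rw [MulAut.inv_apply_self]
        exact hP
      · have h2 : y ∈ α⁻¹ • Q := by
          rw [hmem, inv_inv]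
          exact hQ
        rw [← hPu _ h2, smul_inv_smul]
    · rw [← map_inv]
      exact (isConj_map_iff α _ _).2 hy
  · rintro y ⟨hy, hyr⟩
    obtain ⟨g, hg⟩ := (hOneR y).1 hy
    refine ⟨?_, ?_, hyr⟩
    · rintro rfl
      rw [mul_one, inv_mul_cancel] at hg
      exact h1 hg
    · obtain ⟨P, hP, -⟩ := hy
      obtain ⟨k, hk⟩ := P.isPGroup' ⟨y, hP⟩
      exact ⟨k, congrArg Subtype.val hk⟩

end Sylow

end Cfsg.Agent.H494.R4

namespace Cfsg.Agent.H494.R4

open Cfsg Cfsg.Lie Cfsg.Agent.ChevalleyStructure.Elts Cfsg.Agent.ChevalleyStructure.RootVec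
  Cfsg.Agent.ChevalleyStructure.RootVecTab Cfsg.Agent.H610.ChevRegular Cfsg.Agent.H610.OddReg
  Cfsg.Agent.H610.OddRegLie

universe u

section Chev

variable {F : Type u} [Field F] {D : ChevalleyDatum}

/-- **Regular unipotent classes of the Chevalley groups**, `q` odd. -/
theorem ocSetP_chev {p : ℕ} [hpc : CharP F p] [Fintype F] (hF : Odd (Fintype.card F)) (hD : InList D) (hr : 0 < D.rank)
    {d : ℕ} (hd : Odd d)
    (hH : d * Nat.card (D.diagonalSubgroup F) = (Fintype.card F - 1) ^ D.rank)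
    (hS : ∀ p : ℕ, p.Prime → p ∣ Fintype.card F →
      ¬ p ∣ ((D.posUnipotent F).subgroupOf (D.group F)).index) : OcSetP p (D.group F) := by
  classical
  obtain ⟨⟨m, hm⟩, hp, hcard⟩ := FiniteField.card F p
  simp only [PNat.mk_coe] at hcard
  have hfp : Fact p.Prime := ⟨hp⟩
  have hp2 : p ≠ 2 := by
    rintro rfl
    rw [hcard, Nat.odd_pow_iff hm.ne'] at hF
    exact absurd hF (by decide)
  have hcardU : Nat.card (D.posUnipotent F) = Fintype.card F ^ (D.nroots / 2) :=
    Cfsg.Agent.S1027.result D hD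
  have hUp : IsPGroup p ((D.posUnipotent F).subgroupOf (D.group F)) := by
    have h1 : IsPGroup p (D.posUnipotent F) :=
      IsPGroup.of_card (n := m * (D.nroots / 2)) (by rw [hcardU, hcard, pow_mul])
    exact h1.of_injective (Subgroup.subgroupOfEquivOfLe (posUnipotent_le_group hD F)).toMonoidHom
      (Subgroup.subgroupOfEquivOfLe (posUnipotent_le_group hD F)).injective
  have hpd : p ∣ Fintype.card F := by rw [hcard]; exact dvd_pow_self p hm.ne'
  let U : Sylow p (D.group F) := hUp.toSylow (hS p hp hpd)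
  have hU : ∀ y : D.group F, y ∈ U ↔ y.1 ∈ D.posUnipotent F := fun y => Iff.rfl
  refine ocSetP_of hp hp2 U (B := (D.borelSubgroup F).subgroupOf (D.group F))
    (R := {y | Reg hD y.1}) ?_ ?_ ?_ ?_ ?_ ?_ ?_ (a := Fintype.card F ^ D.rank) (b := d) hF.pow hd ?_
  · intro y hy
    exact (hU y).2 hy.1
  · intro h
    obtain ⟨t, ht, h1⟩ := h.2 0 hr
    exact ht (comp_unique hD hr h1 (comp_one hD 0))
  · intro y hy g hg
    exact mem_borel_of_conj hD hy g.2 (Subgroup.mem_sup_left ((hU _).1 hg))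
  · intro b hb u hu
    exact (hU _).2 (conj_mem_pos hD hb ((hU _).1 hu))
  · intro b hb y hy
    exact Reg.conj hy hb
  · intro y hy hyR
    obtain ⟨i, hi, h1⟩ := exists_comp_zero hD ((hU y).1 hy) hyR
    have hnG : nG hD (D.simple i) (1 : F) ∈ D.group F := nG_mem_group hD _ _
    refine ⟨⟨nG hD (D.simple i) (1 : F), hnG⟩, ?_, (hU _).2 (Ui_le D F i ?_)⟩
    · exact nG_not_mem hD hi
    · have h2 := conj_mem_Ui hD hi (inv_mem (nG_mem (F := F) hD i)) h1
      rwa [inv_inv] at h2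
  · intro y hy
    exact odd_centralizer hF hD le_rfl y.2 hy
  · have h1 : Nat.card ({y | Reg hD y.1} : Set (D.group F)) =
        Nat.card {u : GL D.Idx F // Reg hD u} := by
      refine Nat.card_congr ⟨fun y => ⟨y.1.1, y.2⟩, fun u => ⟨⟨u.1, posUnipotent_le_group hD F
        u.2.1⟩, u.2⟩, fun y => rfl, fun u => rfl⟩
    have h2 : Nat.card ((D.borelSubgroup F).subgroupOf (D.group F)) =
        Nat.card (D.borelSubgroup F) :=
      Nat.card_congr (Subgroup.subgroupOfEquivOfLe (borel_le_group hD)).toEquiv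
    rw [h1, h2, card_borel hD, card_reg hD, card_pos hD, Nat.card_eq_fintype_card, ← hH]
    ring

/-- `G₂(q)`, `q` odd. -/
theorem g2P {p : ℕ} [CharP F p] [Fintype F] (hF : Odd (Fintype.card F)) : OcSetP p (chevG2.group F) := by
  have hD : InList chevG2 := by simp
  have h1 := Cfsg.Agent.S1035.result (F := F) rfl (chevG2, 1) (by simp)
  refine ocSetP_chev hF hD (by decide) odd_one h1 ?_
  intro p' hp hpd hdvd
  have h2 := Cfsg.Agent.S1059.result (F := F) rfl
  have h3 := Cfsg.Agent.S1027.result (F := F) chevG2 hD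
  have h4 : chevG2.nroots / 2 = 6 := by decide
  rw [h4, ← Nat.card_congr (Subgroup.subgroupOfEquivOfLe (posUnipotent_le_group hD F)).toEquiv]
    at h3
  have h5 := Subgroup.card_mul_index ((chevG2.posUnipotent F).subgroupOf (chevG2.group F))
  have hq : 0 < Fintype.card F := Fintype.card_pos
  rw [h3, h2, mul_assoc] at h5
  have h6 := Nat.eq_of_mul_eq_mul_left (by positivity) h5
  rw [h6, hp.dvd_mul] at hdvd
  rcases hdvd with h | h
  · exact not_dvd_pow_sub_one hp hpd hq (by norm_num) h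
  · exact not_dvd_pow_sub_one hp hpd hq (by norm_num) h

end Chev

end Cfsg.Agent.H494.R4

namespace Cfsg.Agent.H494.R4

open Cfsg Cfsg.Lie Cfsg.Agent.H610.OddReg Cfsg.Agent.H610.OddRegLie Cfsg.Agent.H610.OddReg3D4
open Cfsg.Agent.H610.ChevRegular (Comp Reg comp_mul comp_one comp_unique comp_simple comp_root
  odd_centralizer exists_of_mem_borel)
open Cfsg.Agent.H610.Table3D4 (inList twisted_le simple_vals)
open Cfsg.Agent.Schreier.ThreeD4 (tail_le_U drop_le_U xa_eq_zero xb_eq_zero)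
open Cfsg.Agent.ChevalleyStructure.D4Fixed (fix twisted_le_fix)
open Cfsg.Agent.ChevalleyStructure
open Cfsg.Agent.ChevalleyStructure.D4Comm
open Cfsg.Agent.ChevalleyStructure.D4Pos
open Cfsg.Agent.ChevalleyStructure.D4U
open Cfsg.Agent.ChevalleyStructure.TwistedU
open Cfsg.Agent.ChevalleyStructure.D4Twisted

universe u

section ThreeD

variable {K : Type u} [Field K] {q : ℕ} {φ : K →+* K}

/-- `³D₄(q)`, `q` odd. -/
theorem d4P [Fintype K] (hq : IsPrimePow q) (hK : Fintype.card K = q ^ 3) (hodd : Odd q) :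
    ∃ p, p.Prime ∧ p ∣ q ∧ OcSetP p (twistedD4 K q) := by
  classical
  obtain ⟨φ, hφ⟩ := D4Fixed.exists_frob hq hK
  have hle := twisted_le_fix hK hφ
  have hK3 := phi3 hK hφ
  have hfixc := card_fix_field hq.one_lt hK hφ
  have hKodd : Odd (Fintype.card K) := hK ▸ hodd.pow
  obtain ⟨p, m, hp, hm, rfl⟩ := (isPrimePow_nat_iff _).1 hq
  refine ⟨p, hp, dvd_pow_self p hm.ne', ?_⟩
  set q := p ^ m with hqdef
  have hfp : Fact p.Prime := ⟨hp⟩
  have hp2 : p ≠ 2 := by
    rintro rfl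
    rw [hqdef, Nat.odd_pow_iff hm.ne'] at hodd
    exact absurd hodd (by decide)
  have hcardU : Nat.card ((chevD4.posUnipotent K).subgroupOf (twistedD4 K q)) = q ^ 12 := by
    rw [← card_U1 hq hK, ← Subgroup.inf_subgroupOf_right]
    exact Nat.card_congr (Subgroup.subgroupOfEquivOfLe inf_le_right).toEquiv
  have hcardH : Nat.card ((chevD4.diagonalSubgroup K).subgroupOf (twistedD4 K q)) =
      (q - 1) ^ 2 * (q ^ 2 + q + 1) := by
    rw [← Cfsg.Agent.S1106.result hq hK, ← Subgroup.inf_subgroupOf_right]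
    exact Nat.card_congr (Subgroup.subgroupOfEquivOfLe inf_le_right).toEquiv
  have hUp : IsPGroup p ((chevD4.posUnipotent K).subgroupOf (twistedD4 K q)) :=
    IsPGroup.of_card (n := m * 12) (by rw [hcardU, hqdef, pow_mul])
  have hindex : ¬ p ∣ ((chevD4.posUnipotent K).subgroupOf (twistedD4 K q)).index := by
    intro h
    have h5 := Subgroup.card_mul_index ((chevD4.posUnipotent K).subgroupOf (twistedD4 K q))
    rw [hcardU, Cfsg.Agent.S1067.result hq hK, mul_assoc, mul_assoc] at h5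
    have hq0 : 0 < q := hq.pos
    have h6 := Nat.eq_of_mul_eq_mul_left (by positivity) h5
    have hpq : p ∣ q := dvd_pow_self p hm.ne'
    rw [h6, hp.dvd_mul, hp.dvd_mul] at h
    rcases h with h | h | h
    · exact not_dvd_pow_sub_one hp hpq hq0 (by norm_num) h
    · exact not_dvd_pow_sub_one hp hpq hq0 (by norm_num) h
    · have h7 : p ∣ q ^ 8 + q ^ 4 := dvd_add (dvd_pow hpq (by norm_num)) (dvd_pow hpq (by norm_num))
      exact hp.one_lt.ne' (Nat.dvd_one.1 ((Nat.dvd_add_right h7).1 h))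
  let U : Sylow p (twistedD4 K q) := hUp.toSylow hindex
  have hU : ∀ y : twistedD4 K q, y ∈ U ↔ y.1 ∈ chevD4.posUnipotent K := fun y => Iff.rfl
  have hr : 0 < chevD4.rank := by decide
  refine ocSetP_of hp hp2 U (B := (chevD4.borelSubgroup K).subgroupOf (twistedD4 K q))
    (R := {y | Reg inList y.1}) ?_ ?_ ?_ ?_ ?_ ?_ ?_ (a := q ^ 4) (b := 1) hodd.pow odd_one ?_
  · intro y hy
    exact (hU y).2 hy.1
  · intro h
    obtain ⟨t, ht, h1⟩ := h.2 0 hr
    exact ht (comp_unique inList hr h1 (comp_one inList 0))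
  · intro y hy g hg
    exact mem_borel_of_conj inList hy (twisted_le q g.2) (Subgroup.mem_sup_left ((hU _).1 hg))
  · intro b hb u hu
    exact (hU _).2 (conj_mem_pos inList hb ((hU _).1 hu))
  · intro b hb y hy
    exact Reg.conj hy hb
  · intro y hy hyR
    obtain ⟨a, b, c, d, e, f, ha, he, hf, hy'⟩ := (mem_U_inf_iff hK3 hφ hle y.1).1
      ⟨(hU y).1 hy, y.2⟩
    have hyR' : ¬ Reg inList y.1 := hyR
    rw [hy', reg_elt, not_and_or, not_not, not_not] at hyR'
    rcases hyR' with h0 | h0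
    · refine ⟨⟨na K, na_mem hφ⟩, na_not_mem hφ, (hU _).2 ?_⟩
      show (na K)⁻¹ * y.1 * na K ∈ _
      rw [hy', h0]
      exact tail_le_U (na_inv_RS K (l := ordA.tail) (l' := ordA.tail) (by decide +kernel)
        (elt_a_zero b c d e f))
    · refine ⟨⟨nb K, nb_mem hφ⟩, nb_not_mem hφ, (hU _).2 ?_⟩
      show (nb K)⁻¹ * y.1 * nb K ∈ _
      rw [hy', h0]
      exact drop_le_U (nb_inv_RS K (l := ordB.drop 3) (l' := ordB.drop 3) (by decide +kernel)
        (elt_b_zero a c d e f))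
  · intro y hy
    exact odd_centralizer hKodd inList (twisted_le q) y.2 hy
  · -- the number of regular elements
    have hcardR : Nat.card ({y | Reg inList y.1} : Set (twistedD4 K q)) =
        (q - 1) * (q ^ 3 - 1) * q ^ 8 := by
      let f : ({a : K // φ a = a ∧ a ≠ 0} × {a : K // φ a = a} × {a : K // φ a = a}) ×
          ({b : K // b ≠ 0} × K × K) → ({y | Reg inList y.1} : Set (twistedD4 K q)) := fun x =>
        ⟨⟨elt φ x.1.1 x.2.1 x.2.2.1 x.2.2.2 x.1.2.1 x.1.2.2,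
          ((mem_U_inf_iff hK3 hφ hle _).2 ⟨_, _, _, _, _, _, x.1.1.2.1, x.1.2.1.2, x.1.2.2.2,
            rfl⟩).2⟩, (reg_elt _ _ _ _ _ _).2 ⟨x.1.1.2.2, x.2.1.2⟩⟩
      have hf : Function.Bijective f := by
        constructor
        · rintro ⟨⟨a, e, f⟩, b, c, d⟩ ⟨⟨a', e', f'⟩, b', c', d'⟩ h
          obtain ⟨h1, h2, h3, h4, h5, h6⟩ := elt_inj (congrArg (fun y => y.1.1) h)
          simp only at h1 h2 h3 h4 h5 h6
          rw [Subtype.ext h1, Subtype.ext h5, Subtype.ext h6, Subtype.ext h2, h3, h4]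
        · rintro ⟨y, hy⟩
          obtain ⟨a, b, c, d, e, f, ha, he, hf, hy'⟩ := (mem_U_inf_iff hK3 hφ hle y.1).1
            ⟨hy.1, y.2⟩
          have hy2 : Reg inList y.1 := hy
          rw [hy', reg_elt] at hy2
          refine ⟨((⟨a, ha, hy2.1⟩, ⟨e, he⟩, ⟨f, hf⟩), ⟨b, hy2.2⟩, c, d), ?_⟩
          exact Subtype.ext (Subtype.ext hy'.symm)
      rw [← Nat.card_congr (Equiv.ofBijective f hf)]
      have c1 : Nat.card {a : K // φ a = a ∧ a ≠ 0} = q - 1 := by
        have h1 : Nat.card {a : K // φ a = a} = Nat.card {a : K // φ a = a ∧ a ≠ 0} + 1 := by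
          let g : {a : K // φ a = a} ≃ Option {a : K // φ a = a ∧ a ≠ 0} :=
            { toFun := fun a => if h : (a : K) = 0 then none else some ⟨a, a.2, h⟩
              invFun := fun o => match o with
                | none => ⟨0, map_zero φ⟩
                | some b => ⟨b.1, b.2.1⟩
              left_inv := by
                rintro ⟨a, ha⟩
                by_cases h : a = 0
                · subst h; simp
                · simp [h]
              right_inv := by
                rintro (_ | ⟨b, hb⟩)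
                · simp
                · simp [hb.2] }
          rw [Nat.card_congr g, Finite.card_option]
        rw [hfixc] at h1
        omega
      have c2 : Nat.card {b : K // b ≠ 0} = q ^ 3 - 1 := by
        rw [← hK, ← Nat.card_eq_fintype_card, ← Nat.card_units]
        exact Nat.card_congr unitsEquivNeZero.symm
      simp only [Nat.card_prod]
      rw [c1, c2, hfixc, Nat.card_eq_fintype_card, hK]
      ring
    -- the order of the Borel subgroup
    have hcardB : Nat.card ((chevD4.borelSubgroup K).subgroupOf (twistedD4 K q)) =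
        q ^ 12 * ((q - 1) ^ 2 * (q ^ 2 + q + 1)) := by
      rw [← hcardU, ← hcardH, ← Nat.card_prod]
      let f : ((chevD4.posUnipotent K).subgroupOf (twistedD4 K q)) ×
          ((chevD4.diagonalSubgroup K).subgroupOf (twistedD4 K q)) →
          ((chevD4.borelSubgroup K).subgroupOf (twistedD4 K q)) := fun x =>
        ⟨x.1.1 * x.2.1, mul_mem (Subgroup.mem_sup_left (show x.1.1.1 ∈ _ from x.1.2))
          (Subgroup.mem_sup_right (show x.2.1.1 ∈ _ from x.2.2))⟩
      refine (Nat.card_congr (Equiv.ofBijective f ⟨?_, ?_⟩)).symm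
      · rintro ⟨⟨u, hu⟩, ⟨h, hh⟩⟩ ⟨⟨u', hu'⟩, ⟨h', hh'⟩⟩ e
        have e1 : u * h = u' * h' := congrArg Subtype.val e
        have e2 : u'⁻¹ * u = h' * h⁻¹ := by
          rw [inv_mul_eq_iff_eq_mul, ← mul_assoc, ← e1, mul_inv_cancel_right]
        have e3 : (u'⁻¹ * u).1 ∈ chevD4.posUnipotent K ⊓ chevD4.diagonalSubgroup K := by
          refine Subgroup.mem_inf.2 ⟨mul_mem (inv_mem hu') hu, ?_⟩
          rw [e2]
          exact mul_mem hh' (inv_mem hh)
        rw [(Cfsg.Agent.S1036.result (F := K) chevD4 inList).2, Subgroup.mem_bot] at e3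
        have e4 : u = u' := (inv_mul_eq_one.1 (Subtype.ext e3)).symm
        subst e4
        have e5 : h = h' := mul_left_cancel e1
        subst e5
        rfl
      · rintro ⟨b, hb⟩
        obtain ⟨u, hu, huG, h, hh, hhG, e⟩ :=
          ((tdata hφ hle).mem_B_iff (b : GL chevD4.Idx K) b.2).1 hb
        exact ⟨⟨⟨⟨u, huG⟩, hu⟩, ⟨⟨h, hhG⟩, hh⟩⟩, Subtype.ext (Subtype.ext e.symm)⟩
    rw [hcardR, hcardB]
    have hq1 : q ^ 3 - 1 = (q - 1) * (q ^ 2 + q + 1) := by
      obtain ⟨k, hk⟩ : ∃ k, q = k + 1 := ⟨q - 1, (Nat.sub_add_cancel hq.one_lt.le).symm⟩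
      rw [hk, Nat.add_sub_cancel]
      apply Nat.sub_eq_of_eq_add
      ring
    rw [hq1]
    ring

end ThreeD

end Cfsg.Agent.H494.R4

namespace Cfsg.Agent.H494.R4

open Matrix Cfsg Subgroup Cfsg.Agent.H610 Cfsg.Agent.H610.OddOC Cfsg.Agent.H610.OddMat Cfsg.Agent.H610.OddThree

section SL

variable {F : Type*} [Field F] [Finite F]

/-- `PSL(3, q)`, `q` odd. -/
theorem pslP {p : ℕ} [hp : CharP F p] (h2 : (2 : F) ≠ 0) :
    OcAt p (Matrix.ProjectiveSpecialLinearGroup (Fin 3) F) := by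
  classical
  have hpp : p.Prime := (CharP.char_is_prime_or_zero F p).resolve_right (CharP.char_ne_zero_of_finite F p)
  have hp2 : p ≠ 2 := by
    rintro rfl
    exact h2 (by exact_mod_cast CharP.cast_eq_zero F 2)
  obtain ⟨c, hc⟩ : ∃ c : F, 2 * c = 1 := ⟨1 / 2, by field_simp⟩
  let u : Matrix.SpecialLinearGroup (Fin 3) F := ⟨TableL3.uU c, by
    rw [Matrix.det_fin_three]; simp [TableL3.uU]⟩
  let k : Matrix.SpecialLinearGroup (Fin 3) F := ⟨!![-1, 0, 0; 0, 1, 0; 0, 0, -1], by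
    rw [Matrix.det_fin_three]; simp⟩
  refine ocAt_of_matrix (F := F) (Γ := GL (Fin 3) F) Matrix.SpecialLinearGroup.toGL
    (Units.coeHom _) ?_ Units.val_injective hpp hp2 ?_ ?_ ?_ ?_ ?_ ?_ (s₀ := u) (k₀ := k)
    (n₀ := !![0, 1, c; 0, 0, 1; 0, 0, 0]) ?_ ?_ ?_ ?_
  · intro a b hab
    exact Subtype.ext (congrArg Units.val hab)
  · intro s
    exact s.2
  · intro γ hγ
    exact ⟨⟨γ.1, hγ⟩, Units.ext rfl⟩
  · intro γ
    have hd : (Units.coeHom _ γ : Matrix (Fin 3) (Fin 3) F).det ≠ 0 := by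
      have := (Matrix.isUnit_iff_isUnit_det _).1 γ.isUnit
      exact this.ne_zero
    refine ⟨Matrix.GeneralLinearGroup.mkOfDetNeZero
      ((Units.coeHom _ γ : Matrix (Fin 3) (Fin 3) F).det • 1) ?_, rfl⟩
    rw [det_smul, det_one, mul_one]
    exact pow_ne_zero _ hd
  · intro z hz
    obtain ⟨r, -, hr⟩ := Matrix.SpecialLinearGroup.mem_center_iff.1 hz
    refine ⟨r, ?_⟩
    show z.1 = r • 1
    rw [← hr, Matrix.scalar_apply, Matrix.smul_one_eq_diagonal]
  · intro s s' n n' _ _ hn hn2 hn' hn2'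
    obtain ⟨v, hv⟩ := OddMat.exists_ne hn2
    obtain ⟨v', hv'⟩ := OddMat.exists_ne hn2'
    obtain ⟨γ, hd, hγ, -⟩ := exists_conj_aux hn hn' hv hv'
    exact ⟨Matrix.GeneralLinearGroup.mkOfDetNeZero γ hd, hγ⟩
  · intro s n _ hn
    obtain ⟨z, φ, hz, hφ, hφz⟩ := exists_pair hn
    exact ⟨z, φ, hz, hφ, hφz, ⟨invo z φ, invo_det hφz⟩, rfl⟩
  · show TableL3.uU c = _
    ext i j
    fin_cases i <;> fin_cases j <;> simp [TableL3.uU]
  · rw [pow_succ, pow_two]
    ext i j
    fin_cases i <;> fin_cases j <;> simp [Matrix.mul_apply, Fin.sum_univ_three]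
  · intro h
    have := congrFun (congrFun h 0) 2
    rw [pow_two, Matrix.mul_apply, Fin.sum_univ_three] at this
    simp at this
  · rw [mul_inv_eq_iff_eq_mul, eq_inv_mul_iff_mul_eq]
    apply Subtype.ext
    show TableL3.uU c * ((!![-1, 0, 0; 0, 1, 0; 0, 0, -1] : Matrix (Fin 3) (Fin 3) F) *
      TableL3.uU c) = !![-1, 0, 0; 0, 1, 0; 0, 0, -1]
    ext i j
    fin_cases i <;> fin_cases j <;> simp [TableL3.uU, Matrix.mul_apply, Fin.sum_univ_three]
    linear_combination -hc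

end SL

section SU

variable {F : Type*} [Field F] [Fintype F]

/-- `PSU(3, q)`, `q` odd. -/
theorem psuP {p : ℕ} [hp : CharP F p] {q : ℕ} (hF : Fintype.card F = q ^ 2) (h2 : (2 : F) ≠ 0) :
    OcAt p (PSU 3 F q) := by
  classical
  have hpp : p.Prime := (CharP.char_is_prime_or_zero F p).resolve_right (CharP.char_ne_zero_of_finite F p)
  have hp2 : p ≠ 2 := by
    rintro rfl
    exact h2 (by exact_mod_cast CharP.cast_eq_zero F 2)
  obtain ⟨σ, hσ⟩ := ClassicalGeometry.GUBasic.exists_powHom hF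
  have hq := ClassicalGeometry.GUBasic.two_le hF
  have hq0 : q ≠ 0 := by omega
  have hσσ : ∀ x, σ (σ x) = x := by
    intro x
    rw [hσ, hσ, ← pow_mul, ← pow_two, ← hF, FiniteField.pow_card]
  have hN : ∀ a, σ a = a → ∃ x, x * σ x = a := by
    intro a ha
    rw [hσ] at ha
    obtain ⟨x, hx⟩ := LieClassical.HermBasic.exists_norm_eq hF ha
    exact ⟨x, by rw [hσ, hx]⟩
  obtain ⟨c, hc⟩ : ∃ c : F, 2 * c = 1 := ⟨1 / 2, by field_simp⟩
  obtain ⟨x, hx⟩ := TableL3.exists_norm_neg_one hF h2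
  have hx0 : x ≠ 0 := by
    rintro rfl
    rw [zero_pow (Nat.succ_ne_zero q)] at hx
    have : (2 : F) = 0 := by linear_combination 2 * hx
    exact h2 this
  obtain ⟨y, hy⟩ : ∃ y : F, x * y = 1 := ⟨x⁻¹, mul_inv_cancel₀ hx0⟩
  have hσx : σ x = -y := by
    have h1 : x * σ x = -1 := by rw [hσ, ← pow_succ', hx]
    linear_combination (-σ x) * hy + y * h1
  have hσy : σ y = -x := by
    have h1 : σ x * σ y = 1 := by rw [← map_mul, hy, map_one]
    rw [hσx] at h1
    linear_combination (-σ y) * hy - x * h1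
  have hσc : σ c = c := by
    have h1 : 2 * σ c = 1 := by
      have := congrArg σ hc
      rwa [map_mul, map_one, map_ofNat] at this
    linear_combination (-σ c) * hc + c * h1
  have hσ3 : σ 3 = 3 := map_ofNat σ 3
  have hc' : c = 1 / 2 := by
    rw [eq_div_iff h2]
    linear_combination hc
  have hy' : y = 1 / x := by
    rw [eq_div_iff hx0]
    linear_combination hy
  let u0 : Matrix.SpecialLinearGroup (Fin 3) F := ⟨TableL3.uS c x y, by
    rw [Matrix.det_fin_three]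
    simp only [TableL3.uS, of_apply, cons_val', cons_val_zero, cons_val_one, cons_val_two,
      cons_val_fin_one, tail_cons, head_cons, head_fin_const]
    simp
    rw [hc', hy']
    field_simp
    ring⟩
  have hu0 : u0 ∈ SU 3 F q := by
    refine TableL3.mem_SU_three σ hσ _ ?_
    intro i j
    fin_cases i <;> fin_cases j <;> simp [u0, TableL3.uS, hσx, hσy, hσc, hσ3] <;>
      (try rw [hc']) <;> (try rw [hy']) <;> field_simp <;> ring
  let k0 : Matrix.SpecialLinearGroup (Fin 3) F := ⟨!![-1, 0, 0; 0, -1, 0; 0, 0, 1], by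
    rw [Matrix.det_fin_three]; simp⟩
  have hk0 : k0 ∈ SU 3 F q := by
    refine TableL3.mem_SU_three σ hσ _ ?_
    intro i j
    fin_cases i <;> fin_cases j <;> simp [k0]
  let u : SU 3 F q := ⟨u0, hu0⟩
  let k : SU 3 F q := ⟨k0, hk0⟩
  have hN3 : (TableL3.uS c x y - 1) ^ 3 = 0 := by
    rw [pow_succ, pow_two]
    ext i j
    fin_cases i <;> fin_cases j <;>
      simp [TableL3.uS, Matrix.mul_apply, Fin.sum_univ_three] <;>
      (try rw [hc']) <;> (try rw [hy']) <;> field_simp <;> ring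
  have hGUfin : Finite (GU 3 F q) := inferInstance
  refine ocAt_of_matrix (F := F) (Γ := GU 3 F q) (suToGU q) (guM q) ?_ ?_ hpp hp2 ?_ ?_ ?_ ?_ ?_ ?_
    (s₀ := u) (k₀ := k) (n₀ := TableL3.uS c x y - 1) ?_ hN3 ?_ ?_
  · intro a b hab
    have h1 : a.1.1 = b.1.1 := congrArg (fun g : GU 3 F q => g.1.1) hab
    exact Subtype.ext (Subtype.ext h1)
  · intro a b hab
    exact Subtype.ext (Units.ext hab)
  · intro s
    exact s.1.2
  · intro γ hγ
    refine ⟨⟨⟨γ.1.1, hγ⟩, ?_⟩, Subtype.ext (Units.ext rfl)⟩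
    exact γ.2
  · intro γ
    have hd : (guM q γ).det ≠ 0 := by
      have := (Matrix.isUnit_iff_isUnit_det _).1 γ.1.isUnit
      exact this.ne_zero
    have hd1 : (guM q γ).det ^ (q + 1) = 1 :=
      ClassicalGeometry.GUBasic.det_pow hF ((ClassicalGeometry.GUBasic.mem_GU_iff γ.1).1 γ.2)
    refine ⟨⟨Matrix.GeneralLinearGroup.mkOfDetNeZero ((guM q γ).det • 1) ?_, ?_⟩, rfl⟩
    · rw [det_smul, det_one, mul_one]
      exact pow_ne_zero _ hd
    · refine mem_GU hσ ?_
      show ((guM q γ).det • (1 : Matrix (Fin 3) (Fin 3) F))ᵀ *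
        ((guM q γ).det • (1 : Matrix (Fin 3) (Fin 3) F)).map σ = 1
      have e : ((guM q γ).det • (1 : Matrix (Fin 3) (Fin 3) F)).map σ =
          ((guM q γ).det ^ q) • (1 : Matrix (Fin 3) (Fin 3) F) := by
        ext i j
        by_cases hij : i = j
        · subst hij; simp [hσ]
        · simp [hij]
      rw [e, transpose_smul, transpose_one, smul_mul_smul_comm, mul_one, ← pow_succ', hd1, one_smul]
  · intro z hz
    obtain ⟨r, _, _, hr⟩ := (LieClassical.SUBasic.mem_center_SU_iff hF le_rfl z).1 hz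
    refine ⟨r, ?_⟩
    show z.1.1 = r • 1
    rw [hr, LieClassical.SUBasic.coe_suScalar, Matrix.smul_one_eq_diagonal]
  · intro s s' n n' hs hs' hn hn2 hn' hn2'
    have h1 : (1 + n)ᵀ * (1 + n).map σ = 1 := by
      rw [← hs]
      exact of_mem hq0 hσ (suToGU q s).2
    have h1' : (1 + n')ᵀ * (1 + n').map σ = 1 := by
      rw [← hs']
      exact of_mem hq0 hσ (suToGU q s').2
    obtain ⟨γ, hd, hγ, hγu⟩ := exists_conj_unitary hσσ h2 hN hn hn2 h1 hn' hn2' h1'
    exact ⟨⟨Matrix.GeneralLinearGroup.mkOfDetNeZero γ hd, mem_GU hσ hγu⟩, hγ⟩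
  · intro s n hs hn
    have h1 : (1 + n)ᵀ * (1 + n).map σ = 1 := by
      rw [← hs]
      exact of_mem hq0 hσ (suToGU q s).2
    obtain ⟨z, φ, hz, hφ, hφz, hi⟩ := exists_invo_unitary hσσ h2 hn h1
    refine ⟨z, φ, hz, hφ, hφz, ⟨⟨invo z φ, invo_det hφz⟩, ?_⟩, rfl⟩
    exact mem_GU (A := Matrix.SpecialLinearGroup.toGL ⟨invo z φ, invo_det hφz⟩) hσ hi
  · show TableL3.uS c x y = 1 + (TableL3.uS c x y - 1)
    abel
  · intro h
    have h1 := congrFun (congrFun h 0) 0
    rw [pow_two, Matrix.mul_apply, Fin.sum_univ_three] at h1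
    simp [TableL3.uS] at h1
    have h3 : (1 : F) = 0 := by linear_combination (-1) * h1 + c ^ 2 * (-1) * hy - hc
    exact one_ne_zero h3
  · rw [mul_inv_eq_iff_eq_mul, eq_inv_mul_iff_mul_eq]
    apply Subtype.ext
    apply Subtype.ext
    show TableL3.uS c x y * ((!![-1, 0, 0; 0, -1, 0; 0, 0, 1] : Matrix (Fin 3) (Fin 3) F) *
      TableL3.uS c x y) = !![-1, 0, 0; 0, -1, 0; 0, 0, 1]
    ext i j
    fin_cases i <;> fin_cases j <;> simp [TableL3.uS, Matrix.mul_apply, Fin.sum_univ_three]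
    all_goals (try rw [hc']) <;> (try rw [hy']) <;> field_simp <;> ring

end SU

end Cfsg.Agent.H494.R4
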