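import Cfsg.Agent.H619.R4.Defs
import Cfsg.Agent.H727.Orth.Rows
import Cfsg.Agent.S1489

/-!
# Real characters of almost simple groups from `OExt` (helper494, S4554)

* `rd_of_oext` : an irreducible character `θ ≠ 1` of `S` with `OExt θ` gives `RD G N (k θ(1))`, `k` the index of
  the stabilizer of `θ` in `G`;
* `rd_even` : `EvenO S` gives an even degree.
-/

set_option autoImplicit false
set_option linter.unusedSectionVars false

namespace Cfsg.Agent.H494.R4

open Cfsg Cfsg.Agent.Characters Cfsg.Agent.Blocks Cfsg.Agent.H686.CharKit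
open Cfsg.Agent.H727.Orth Cfsg.Agent.H619.R4
open Cfsg.Agent.H705.StrongLin (ind real_of_ind)
open scoped ComplexConjugate

universe u

/-- the action of `G` on the normal subgroup `N ≅ S` -/
def act {S : Type u} [Group S] {G : Type u} [Group G] (N : Subgroup G) [N.Normal] (f : S ≃* N) : G →* MulAut S :=
  (MulAut.congr f.symm).toMonoidHom.comp (MulAut.conjNormal (H := N))

section

variable {S : Type u} [Group S] {G : Type u} [Group G] (N : Subgroup G) [hN : N.Normal] (f : S ≃* N)

theorem act_apply (g : G) (s : S) : f (act N f g s) = ⟨g * f s * g⁻¹, hN.conj_mem _ (f s).2 g⟩ := by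
  apply Subtype.ext
  show ((f (f.symm ((MulAut.conjNormal g : MulAut N) (f.symm.symm s))) : N) : G) = _
  rw [MulEquiv.apply_symm_apply, MulAut.conjNormal_apply]
  rfl

theorem act_coe (s : S) : act N f (f s) = MulAut.conj s := by
  ext t
  apply f.injective
  rw [act_apply, MulAut.conj_apply, map_mul, map_mul, map_inv]
  rfl

theorem act_inj (hC : Subgroup.centralizer (N : Set G) = ⊥) : Function.Injective (act N f) := by
  rw [← MonoidHom.ker_eq_bot_iff, eq_bot_iff, ← hC]
  intro g hg
  rw [MonoidHom.mem_ker] at hg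
  rw [Subgroup.mem_centralizer_iff]
  intro n hn
  have h1 := act_apply N f g (f.symm ⟨n, hn⟩)
  rw [hg] at h1
  have h2 : f ((1 : MulAut S) (f.symm ⟨n, hn⟩)) = ⟨n, hn⟩ := f.apply_symm_apply _
  rw [h2] at h1
  have h3 := congrArg Subtype.val h1
  simp only [MulEquiv.apply_symm_apply] at h3
  exact (mul_inv_eq_iff_eq_mul.1 h3.symm).symm

/-- the stabilizer of `θ` in `G` -/
def stb (θ : S → ℂ) : Subgroup G := (stab θ).comap (act N f)

theorem mem_stb {θ : S → ℂ} {g : G} : g ∈ stb N f θ ↔ ∀ s, θ (act N f g s) = θ s := Iff.rfl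

theorem le_stb {θ : S → ℂ} (h : IsClassFunction S θ) : N ≤ stb N f θ := by
  intro n hn
  show act N f n ∈ stab θ
  have h1 := act_coe N f (f.symm ⟨n, hn⟩)
  rw [MulEquiv.apply_symm_apply] at h1
  rw [h1]
  exact conj_mem_stab h _

theorem index_stb_dvd {θ : S → ℂ} [Finite G] (h : IsClassFunction S θ) : (stb N f θ).index ∣ Nat.card (G ⧸ N) :=
  Subgroup.index_dvd_of_le (le_stb N f h)

end

/-- **Characters of `G` from `OExt`.** -/
theorem rd_of_oext {S : Type u} [Group S] [Finite S] {θ : S → ℂ} (h1 : IsIrrCharacter S θ)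
    (hne : ∃ s, θ s ≠ θ 1) (hE : OExt θ) {G : Type u} [Group G] [Finite G] (N : Subgroup G) [hN : N.Normal]
    (f : S ≃* N) : RD G N ((stb N f θ).index * charDegree θ) := by
  classical
  have := Fintype.ofFinite G
  have := Fintype.ofFinite N
  have := Fintype.ofFinite S
  obtain ⟨T, hT⟩ : ∃ T, T = stb N f θ := ⟨_, rfl⟩
  have := Fintype.ofFinite T
  have hNT : N ≤ T := hT ▸ le_stb N f (Core.isIrr_isClassFunction h1)
  obtain ⟨χ, hχ, hχi, hχr⟩ := hE
  have hχreal := real_of_ind hχ hχi
  let κ : T →* stab θ := ((act N f).comp T.subtype).codRestrict (stab θ) (fun t => by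
    have h2 : (t : G) ∈ stb N f θ := hT ▸ t.2
    exact h2)
  have hκ : ∀ t : T, ((κ t : stab θ) : MulAut S) = act N f t := fun t => rfl
  obtain ⟨ψ, hψ⟩ : ∃ ψ : T → ℂ, ψ = χ ∘ κ := ⟨_, rfl⟩
  have hψc : IsCharacter T ψ := hψ ▸ Core.isCharacter_comp κ (Core.isIrr_isCharacter hχ)
  -- the restriction to `N`
  obtain ⟨φ, hφ⟩ : ∃ φ : N → ℂ, φ = fun n => θ (f.symm n) := ⟨_, rfl⟩
  have hφi : IsIrrCharacter N φ := hφ ▸ Core.isIrr_comp f.symm.toMonoidHom f.symm.surjective h1
  have hψN : ∀ n : N, ψ ⟨n, hNT n.2⟩ = φ n := by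
    intro n
    rw [hψ, hφ]
    show χ (κ ⟨n, hNT n.2⟩) = θ (f.symm n)
    have h2 : act N f n = MulAut.conj (f.symm n) := by
      have h3 := act_coe N f (f.symm n)
      rwa [MulEquiv.apply_symm_apply] at h3
    have h3 : MulAut.conj (f.symm n) ∈ stab θ := conj_mem_stab (Core.isIrr_isClassFunction h1) _
    rw [← hχr (f.symm n) h3]
    congr 1
    exact Subtype.ext h2
  have hψi : IsIrrCharacter T ψ := by
    refine Cfsg.Agent.H595.Triple.isIrr_of_comp (Subgroup.inclusion hNT) hψc ?_
    have h2 : ψ ∘ (Subgroup.inclusion hNT) = φ := funext fun n => hψN n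
    rw [h2]
    exact hφi
  have hψreal : ∀ t, (ψ t).im = 0 := by
    intro t
    rw [hψ]
    exact hχreal _
  -- Clifford
  have hcl : IsIrrCharacter G (indFun T ψ) := by
    have := Fintype.ofFinite (N.subgroupOf T)
    have hfun : (fun x : N.subgroupOf T => φ ⟨(x : T), Subgroup.mem_subgroupOf.mp x.2⟩) =
        fun x : N.subgroupOf T => ψ x := by
      funext x
      rw [← hψN]
    have hin : classInner (indFun (N.subgroupOf T) (fun x => φ ⟨(x : T), Subgroup.mem_subgroupOf.mp x.2⟩)) ψ ≠ 0 := by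
      rw [CharactersDeep.IndFun.classInner_indFun _ _ _ (Core.isIrr_isClassFunction hψi), hfun]
      have h2 : IsIrrCharacter (N.subgroupOf T) (fun x : N.subgroupOf T => ψ x) := by
        rw [← hfun]
        exact Core.isIrr_comp (Subgroup.subgroupOfEquivOfLe hNT).toMonoidHom
          (Subgroup.subgroupOfEquivOfLe hNT).surjective hφi
      rw [Core.classInner_irr_self h2]
      exact one_ne_zero
    refine (Cfsg.Agent.S1489.result N T φ hφi ?_ hNT ψ ψ hψi hψi hin hin).1
    intro g
    rw [hT, mem_stb]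
    have key : ∀ s : S, φ ⟨g * f s * g⁻¹, hN.conj_mem _ (f s).2 g⟩ = θ (act N f g s) := by
      intro s
      rw [← act_apply N f g s, hφ]
      show θ (f.symm (f _)) = _
      rw [MulEquiv.symm_apply_apply]
    have key2 : ∀ s : S, φ (f s) = θ s := by
      intro s
      rw [hφ]
      show θ (f.symm (f _)) = _
      rw [MulEquiv.symm_apply_apply]
    constructor
    · intro h n
      obtain ⟨s, rfl⟩ := f.surjective n
      rw [key, key2, h]
    · intro h s
      rw [← key, ← key2]
      exact h (f s)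
  have hdeg : ∀ d : ℕ, (d : ℂ) = indFun T ψ 1 → d = T.index * charDegree θ := by
    intro d hd
    have h2 : indFun T ψ 1 = (T.index : ℂ) * ψ 1 := H612.Heredity.indFun_one T ψ
    have h3 : ψ 1 = θ 1 := by
      have h4 := hψN 1
      rw [hφ] at h4
      have h5 : θ (f.symm 1) = θ 1 := by rw [map_one]
      rw [← h5]
      exact h4
    rw [h2, h3, Cfsg.Agent.Blocks.Basic.irr_one_eq_charDegree h1] at hd
    exact_mod_cast hd
  refine ⟨⟨indFun T ψ, hcl⟩, ?_, ?_, ?_⟩
  · intro g
    show (indFun T ψ g).im = 0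
    rw [CharactersDeep.IndFun.indFun_def]
    have h2 : (∑ x : G, extendByZero T ψ (x⁻¹ * g * x)).im = 0 := by
      rw [Complex.im_sum]
      refine Finset.sum_eq_zero fun x _ => ?_
      by_cases hx : x⁻¹ * g * x ∈ T
      · rw [CharactersDeep.IndFun.extendByZero_mem T ψ hx]
        exact hψreal _
      · rw [CharactersDeep.IndFun.extendByZero_notMem T ψ hx, Complex.zero_im]
    rw [Complex.mul_im, h2, mul_zero, zero_add]
    have h3 : ((Nat.card T : ℂ)⁻¹).im = 0 := by
      rw [Complex.inv_im, Complex.natCast_im]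
      simp
    rw [h3, zero_mul]
  · -- not trivial on `N`
    by_contra hcon
    push Not at hcon
    have hφ1 : ∑ n : N, φ n = 0 := by
      have h2 : (φ : N → ℂ) ≠ 1 := by
        intro h3
        obtain ⟨s, hs⟩ := hne
        apply hs
        have h4 : ∀ s : S, φ (f s) = θ s := by
          intro s
          rw [hφ]
          show θ (f.symm (f _)) = _
          rw [MulEquiv.symm_apply_apply]
        have h5 : φ (f 1) = θ 1 := h4 1
        rw [← h4 s, ← h5, h3]
        rfl
      have h3 := Core.classInner_irr_ne hφi (Core.isIrr_one (G := N)) h2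
      rw [Core.classInner_def] at h3
      have h4 := (mul_eq_zero.1 h3).resolve_left (inv_ne_zero Core.card_ne_zero_complex)
      rw [← h4]
      refine Finset.sum_congr rfl fun n _ => ?_
      rw [Pi.one_apply, map_one, mul_one]
    have hv : ∀ n : N, indFun T ψ (n : G) = (Nat.card T : ℂ)⁻¹ * ∑ x : G,
        φ ⟨x⁻¹ * n * x, by simpa using hN.conj_mem n n.2 x⁻¹⟩ := by
      intro n
      rw [CharactersDeep.IndFun.indFun_def]
      congr 1
      refine Finset.sum_congr rfl fun x _ => ?_
      have h2 : x⁻¹ * (n : G) * x ∈ N := by simpa using hN.conj_mem n n.2 x⁻¹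
      rw [CharactersDeep.IndFun.extendByZero_mem T ψ (hNT h2)]
      exact hψN ⟨_, h2⟩
    have h2 : ∑ n : N, indFun T ψ (n : G) = 0 := by
      rw [Finset.sum_congr rfl fun n _ => hv n, ← Finset.mul_sum, Finset.sum_comm]
      have h3 : ∀ x : G, ∑ n : N, φ ⟨x⁻¹ * n * x, by simpa using hN.conj_mem n n.2 x⁻¹⟩ = 0 := by
        intro x
        rw [← hφ1]
        refine Fintype.sum_equiv (MulAut.conjNormal x⁻¹ : MulAut N).toEquiv _ _ fun n => ?_
        congr 1
        apply Subtype.ext
        show x⁻¹ * (n : G) * x = ((MulAut.conjNormal x⁻¹ : MulAut N) n : G)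
        rw [MulAut.conjNormal_apply, inv_inv]
      rw [Finset.sum_congr rfl fun x _ => h3 x, Finset.sum_const_zero, mul_zero]
    have h3 : ∑ n : N, indFun T ψ (n : G) = (Nat.card N : ℂ) * indFun T ψ 1 := by
      have h4 : ∀ n : N, indFun T ψ (n : G) = indFun T ψ 1 := fun n => hcon n n.2
      rw [Finset.sum_congr rfl fun n _ => h4 n, Finset.sum_const, Finset.card_univ, nsmul_eq_mul,
        Nat.card_eq_fintype_card]
    rw [h2] at h3
    exact mul_ne_zero Core.card_ne_zero_complex (Core.isIrr_apply_one_ne_zero hcl) h3.symm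
  · have h2 := charDegree_irr (⟨indFun T ψ, hcl⟩ : IrrCharacter G)
    have h3 := hdeg _ h2
    rw [← hT]
    exact h3

end Cfsg.Agent.H494.R4
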