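import Cfsg.Agent.H494.R4.OExt
import Cfsg.Agent.S0867
import Cfsg.Agent.H597.RelThompson
import Cfsg.Agent.H903.DihSimple
import Cfsg.Agent.Transfer.Residual
import Cfsg.Agent.H594.Cyclic

/-!
# Real characters of odd degree extend (helper494, S4554)

* `ind_of_odd` : a real irreducible character of odd degree has indicator one;
* `oext_of_odd` : a real irreducible character of odd degree of a nonabelian simple group satisfies `OExt`;
* `rd_odd`, `rd_even`.
-/

set_option autoImplicit false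
set_option linter.unusedSectionVars false

namespace Cfsg.Agent.H494.R4

open Cfsg Cfsg.Agent.Characters Cfsg.Agent.Blocks Cfsg.Agent.H686.CharKit
open Cfsg.Agent.H727.Orth Cfsg.Agent.H619.R4
open Cfsg.Agent.H705.StrongLin (ind ind_eq real_of_ind)
open Cfsg.Agent.H694 (mu mu_eq irr_mu_spec RChar rchar_irr ind_cases ind_eq_zero_iff even_restrict)
open scoped ComplexConjugate

universe u

/-- A real irreducible character of odd degree has indicator one. -/
theorem ind_of_odd {G : Type*} [Group G] [Finite G] {χ : G → ℂ} (hχ : IsIrrCharacter G χ)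
    (hr : ∀ g, (χ g).im = 0) (ho : Odd (charDegree χ)) : ind χ = 1 := by
  classical
  have := Fintype.ofFinite G
  rcases ind_cases hχ with h | h | h
  · obtain ⟨g, hg⟩ := (ind_eq_zero_iff hχ).1 h
    exact absurd (hr g) hg
  · exact h
  · exfalso
    have h1 : ind (1 : Unit → ℂ) = 1 := by
      rw [ind_eq]
      simp
    obtain ⟨n, hn⟩ := even_restrict (1 : Unit →* G) hχ (Core.isIrr_one (G := Unit)) (by rw [h, h1, mul_one])
    rw [Core.classInner_def] at hn
    simp only [Nat.card_unique, Nat.cast_one, inv_one, Finset.univ_unique, Finset.sum_singleton, one_mul,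
      MonoidHom.one_apply, Pi.one_apply, map_one, mul_one] at hn
    rw [Cfsg.Agent.Blocks.Basic.irr_one_eq_charDegree hχ] at hn
    have h2 : ((charDegree χ : ℕ) : ℤ) = 2 * n := by exact_mod_cast hn
    obtain ⟨k, hk⟩ := ho
    omega

/-- **Real irreducible characters of odd degree extend to their stabilizers.** -/
theorem oext_of_odd {S : Type u} [Group S] [Finite S] (hc : Subgroup.center S = ⊥) (hp : pResidual 2 S = ⊤)
    {θ : S → ℂ} (h1 : IsIrrCharacter S θ) (hr : ∀ s, (θ s).im = 0) (ho : Odd (charDegree θ)) : OExt θ := by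
  classical
  have : Fact (Nat.Prime 2) := ⟨Nat.prime_two⟩
  have := Fintype.ofFinite S
  have hind := ind_of_odd h1 hr ho
  obtain ⟨I, hI⟩ : ∃ I, I = stab θ := ⟨_, rfl⟩
  let P : Sylow 2 I := default
  let P' : Subgroup (MulAut S) := (P : Subgroup I).map I.subtype
  let N0 : Subgroup (MulAut S) := (MulAut.conj : S →* MulAut S).range
  have hN0I : N0 ≤ I := by
    rintro _ ⟨s, rfl⟩
    exact hI ▸ conj_mem_stab (Core.isIrr_isClassFunction h1) s
  have hP'I : P' ≤ I := Subgroup.map_subtype_le _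
  obtain ⟨J, hJ⟩ : ∃ J, J = N0 ⊔ P' := ⟨_, rfl⟩
  have hN0J : N0 ≤ J := hJ ▸ le_sup_left
  have hP'J : P' ≤ J := hJ ▸ le_sup_right
  have hJI : J ≤ I := hJ ▸ sup_le hN0I hP'I
  have := Fintype.ofFinite J
  have hNJ : ∀ s : S, MulAut.conj s ∈ J := fun s => hN0J ⟨s, rfl⟩
  obtain ⟨N1, hN1⟩ : ∃ N1, N1 = N0.subgroupOf J := ⟨_, rfl⟩
  have hN1n : N1.Normal := hN1 ▸ inferInstance
  let e : S ≃* N0 := innEquiv hc
  have he : ∀ s, ((e s : N0) : MulAut S) = MulAut.conj s := fun s => rfl
  let e1 : N1 ≃* S := ((MulEquiv.subgroupCongr hN1).trans (Subgroup.subgroupOfEquivOfLe hN0J)).trans e.symm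
  have he1 : ∀ n : N1, MulAut.conj (e1 n) = ((n : J) : MulAut S) := by
    intro n
    have h2 : e (e1 n) = ((MulEquiv.subgroupCongr hN1).trans (Subgroup.subgroupOfEquivOfLe hN0J)) n :=
      e.apply_symm_apply _
    rw [← he, h2]
    rfl
  obtain ⟨ϑ, hϑ⟩ : ∃ ϑ : N1 → ℂ, ϑ = fun n => θ (e1 n) := ⟨_, rfl⟩
  have hϑi : IsIrrCharacter N1 ϑ := hϑ ▸ Core.isIrr_comp e1.toMonoidHom e1.surjective h1
  have hϑ1 : ϑ 1 = θ 1 := by rw [hϑ]; show θ (e1 1) = _; rw [map_one]
  -- invariance
  have hinv : ∀ (g : J) (n : N1), ϑ ⟨g * n * g⁻¹, hN1n.conj_mem (n : J) n.2 g⟩ = ϑ n := by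
    intro g n
    have hg : (g : MulAut S) ∈ stab θ := hI ▸ hJI g.2
    rw [hϑ]
    show θ (e1 _) = θ (e1 n)
    have h2 : e1 ⟨g * n * g⁻¹, hN1n.conj_mem (n : J) n.2 g⟩ = (g : MulAut S) (e1 n) := by
      apply e.injective
      apply Subtype.ext
      rw [he, he, he1]
      show ((g : MulAut S) * ((n : J) : MulAut S) * (g : MulAut S)⁻¹) = _
      rw [← he1]
      ext x
      simp
    rw [h2]
    exact hg _
  -- the index of `N1` is a power of two
  have hidx : ∃ a, N1.index = 2 ^ a := by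
    have h2 : N1.index = N0.relIndex J := by rw [hN1]; rfl
    have h3 : N0.relIndex J ∣ Nat.card P' := by
      rw [hJ, Subgroup.relIndex_sup_left]
      exact Subgroup.relIndex_dvd_card _ _
    have h4 : IsPGroup 2 P' := P.2.map _
    obtain ⟨k, hk⟩ := IsPGroup.iff_card.1 h4
    rw [hk] at h3
    obtain ⟨a, -, ha⟩ := (Nat.dvd_prime_pow Nat.prime_two).1 h3
    exact ⟨a, by rw [h2, ha]⟩
  have hres : pResidual 2 N1 = ⊤ := by
    have h2 := Transfer.Residual.map_pResidual_equiv 2 e1.symm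
    rw [hp] at h2
    rw [← h2]
    exact Subgroup.map_top_of_surjective _ e1.symm.surjective
  have hdet : Odd (detOrder ϑ) := by
    have h2 := Cfsg.Agent.H597.RelThompson.detOrder_not_dvd 2 hres hϑi
    rwa [← even_iff_two_dvd, Nat.not_even_iff_odd] at h2
  have hd : ϑ 1 = (charDegree θ : ℂ) := by
    rw [hϑ1]
    exact Cfsg.Agent.Blocks.Basic.irr_one_eq_charDegree h1
  have hcop : Nat.Coprime N1.index (detOrder ϑ * charDegree θ) := by
    obtain ⟨a, ha⟩ := hidx
    rw [ha]
    exact Nat.Coprime.pow_left a (Nat.coprime_two_left.2 (hdet.mul ho))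
  obtain ⟨χ, ⟨hχ, hχr, hχd⟩, huniq⟩ := Cfsg.Agent.S0867.result N1 ϑ hϑi hinv (charDegree θ) hd hcop
  -- `χ` is real
  have hreal : ∀ g, (χ g).im = 0 := by
    have h2 : (fun g => conj (χ g)) = χ := by
      refine huniq _ (Core.isIrr_conj hχ) ?_ ?_
      · intro n
        show conj (χ n) = ϑ n
        rw [hχr, hϑ]
        exact Complex.conj_eq_iff_im.2 (hr _)
      · have h3 := Cfsg.Agent.H594.Cyclic.detOrder_map starRingAut hχ
        have h4 : (fun g => (starRingAut : ℂ ≃+* ℂ) (χ g)) = fun g => conj (χ g) := rfl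
        rw [h4] at h3
        rw [h3, hχd]
        exact Nat.Coprime.coprime_mul_right_right hcop
    intro g
    exact Complex.conj_eq_iff_im.1 (congrFun h2 g)
  have hχdeg : charDegree χ = charDegree θ := by
    have h2 : (charDegree χ : ℂ) = charDegree θ := by
      rw [← Cfsg.Agent.Blocks.Basic.irr_one_eq_charDegree hχ, ← hd]
      exact hχr 1
    exact_mod_cast h2
  have hχ1 : ind χ = 1 := ind_of_odd hχ hreal (hχdeg ▸ ho)
  have hχθ : (fun s : S => χ ⟨MulAut.conj s, hNJ s⟩) = θ := by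
    funext s
    have h2 : (⟨MulAut.conj s, hNJ s⟩ : J) ∈ N1 := by
      rw [hN1, Subgroup.mem_subgroupOf]
      exact ⟨s, rfl⟩
    have h3 := hχr ⟨_, h2⟩
    have h4 : e1 ⟨⟨MulAut.conj s, hNJ s⟩, h2⟩ = s := by
      apply e.injective
      apply Subtype.ext
      rw [he, he, he1]
    rw [h3, hϑ]
    show θ (e1 _) = θ s
    rw [h4]
  refine oext_of_real hc h1 hind J hNJ (rchar_irr hχ hχ1) ?_ ?_
  · rw [hχθ, mu_eq (n := 1) (by rw [Core.classInner_irr_self h1]; norm_num)]
    exact odd_one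
  · rw [← hI]
    have h2 : (J.relIndex I) ∣ P'.relIndex I := Subgroup.relIndex_dvd_of_le_left _ hP'J
    have h3 : P'.relIndex I = (P : Subgroup I).index := by
      rw [Subgroup.relIndex]
      congr 1
      exact Subgroup.comap_map_eq_self_of_injective I.subtype_injective _
    have h4 : Odd (P : Subgroup I).index := by
      have h5 := P.not_dvd_index
      rwa [← even_iff_two_dvd, Nat.not_even_iff_odd] at h5
    rw [h3] at h2
    exact h4.of_dvd_nat h2

/-- a nonconstant irreducible character -/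
theorem ne_of_degree {S : Type u} [Group S] [Finite S] {θ : S → ℂ} (h1 : IsIrrCharacter S θ)
    (h : charDegree θ ≠ 1) : ∃ s, θ s ≠ θ 1 := by
  classical
  have := Fintype.ofFinite S
  by_contra hcon
  push Not at hcon
  apply h
  have h2 : θ = 1 := by
    by_contra hne
    have h3 := Core.classInner_irr_ne h1 (Core.isIrr_one (G := S)) hne
    rw [Core.classInner_def] at h3
    have h4 := (mul_eq_zero.1 h3).resolve_left (inv_ne_zero Core.card_ne_zero_complex)
    have h5 : ∑ g : S, θ g * conj ((1 : S → ℂ) g) = (Nat.card S : ℂ) * θ 1 := by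
      rw [Nat.card_eq_fintype_card, ← nsmul_eq_mul, ← Finset.card_univ, ← Finset.sum_const]
      refine Finset.sum_congr rfl fun g _ => ?_
      rw [hcon g, Pi.one_apply, map_one, mul_one]
    rw [h5] at h4
    exact mul_ne_zero Core.card_ne_zero_complex (Core.isIrr_apply_one_ne_zero h1) h4
  have h3 := Cfsg.Agent.Blocks.Basic.irr_one_eq_charDegree h1
  have h4 : θ 1 = 1 := by rw [h2, Pi.one_apply]
  rw [h4] at h3
  exact_mod_cast h3.symm

/-- **The even degree.** -/
theorem rd_even {S : Type u} [Group S] [Finite S] (hE : EvenO S) {G : Type u} [Group G] [Finite G]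
    (N : Subgroup G) [N.Normal] (f : S ≃* N) : ∃ d, Even d ∧ RD G N d := by
  obtain ⟨θ, h1, -, h3, h4⟩ := hE
  have hne : charDegree θ ≠ 1 := by
    intro h
    rw [h] at h3
    exact absurd h3 (by decide)
  exact ⟨_, h3.mul_left _, rd_of_oext h1 (ne_of_degree h1 hne) h4 N f⟩

end Cfsg.Agent.H494.R4
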