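import Cfsg.Agent.H494.R4.SubOdd
import Cfsg.Agent.H694.BnData
import Cfsg.Agent.H687.BNGeo
import Cfsg.Agent.H612.RowB2

/-!
# A second odd degree for groups with a split (B,N)-pair of odd characteristic (helper494, S4554)

* `second_of_splitT` : `J ≠ ∅` invariant under the symmetries of the diagram, `|W : W_J|` even;
* `second_of_noSwap` : type `B₂` without exchange of the parabolic subgroups.
-/

set_option autoImplicit false
set_option linter.unusedSectionVars false

namespace Cfsg.Agent.H494.R4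

open Cfsg Cfsg.Agent.LieExceptional.BNPairCore Cfsg.Agent.Tits.Core Cfsg.Agent.FixBN
open Cfsg.Agent.H288.BnAbs Cfsg.Agent.H288.BnTwo
open Cfsg.Agent.H694 (PJ PJ_sub B_le_PJ exists_type_perm index_mod cB parity_B map_conj_conj map_conj_one)
open Cfsg.Agent.Omega.ML.Ex.Typ (HasSplitT HasRGDT)
open Cfsg.Agent.H612.RowB2 (no_map ident map_conj_map)

universe u

variable {S : Type u} [Group S] [Finite S]

/-- `r` divides the orders of the intersections of conjugates of `P_J`, `J ≠ ∅` -/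
theorem dvd_card_PJ {r : ℕ} [Fact r.Prime] {P : Cfsg.BNPair S} {U : Subgroup S} (hs : Split P r U) {I : Type*}
    (e : I ≃ P.S) {J : Set I} {j : I} (hj : j ∈ J) (x : S) :
    r ∣ Nat.card ↥(PJ P e J ⊓ (PJ P e J).map (MulAut.conj x).toMonoidHom) := by
  have h1 := H687.dvd_card_inf hs (e j).2 x
  have h2 : P.parabolic {((e j : P.S) : S)} ≤ PJ P e J := by
    unfold H694.PJ
    refine sup_le_sup_left (Subgroup.closure_mono ?_) _
    intro y hy
    rw [Set.mem_singleton_iff] at hy
    exact ⟨j, hj, hy.symm⟩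
  exact h1.trans (Subgroup.card_dvd_of_le (inf_le_inf h2 (Subgroup.map_mono h2)))

variable [IsSimpleGroup S]

/-- **Odd characteristic, invariant `J`.** -/
theorem second_of_splitT (hna : ∃ a b : S, a * b ≠ b * a) {r : ℕ} (hr : r.Prime) (hr2 : r ≠ 2)
    (hS : IsLieTypeChar r S) {I : Type*} [Finite I] {M : CoxeterMatrix I} (hK : HasSplitT r M S) (J : Set I) {j : I}
    (hj : j ∈ J) (hJ : ∀ σ : I ≃ I, (∀ i j, M (σ i) (σ j) = M i j) → σ '' J = J)
    (heven : ∀ (W : Type u) [Group W] [Finite W] (cs : CoxeterSystem M W), Even (WJ cs J).index) :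
    SecondOdd r S := by
  obtain ⟨P, U, e, hs, hN, cs, hcs⟩ := hK
  have : Fact r.Prime := ⟨hr⟩
  refine second_of_subgroup hna hr hS (PJ P e J) ?_ ?_ (fun x => dvd_card_PJ hs e hj x)
  · intro α
    obtain ⟨σ, hσ, h⟩ := exists_type_perm e cs hcs hs α
    obtain ⟨g, hg⟩ := h J
    rw [hJ σ hσ] at hg
    exact ⟨g, hg⟩
  · have h1 := index_mod e cs hcs (hr.odd_of_ne_two hr2) hs J
    have h2 := heven (Tits.OfBN.WP P) cs
    rw [Nat.even_iff] at h2 ⊢
    rw [h1, h2]

/-- **Type `B₂` without exchange of the parabolic subgroups.** -/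
theorem second_of_noSwap (hna : ∃ a b : S, a * b ≠ b * a) {r : ℕ} (hr : r.Prime) (hr2 : r ≠ 2)
    (hS : IsLieTypeChar r S) (hK : HasSplitT r (CoxeterMatrix.B 2) S) (h : NoSwap r S) : SecondOdd r S := by
  obtain ⟨P, U, e, hs, hN, cs, hcs⟩ := hK
  have : Fact r.Prime := ⟨hr⟩
  obtain ⟨U', R, hR, hsw⟩ := h
  obtain ⟨g, σ, hσi, hσ⟩ := ident hR hs e
  have h1 : {i : Fin 2 | cB 2 i = 0} = {1} := by
    ext i
    show cB 2 i = 0 ↔ i = 1
    revert i
    decide
  refine second_of_subgroup hna hr hS (PJ P e {i | cB 2 i = 0}) ?_ ?_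
    (fun x => dvd_card_PJ hs e (j := 1) (by rw [h1]; rfl) x)
  · rw [h1]
    intro α
    obtain ⟨τ, -, h⟩ := exists_type_perm e cs hcs hs α
    obtain ⟨t, ht⟩ := h {1}
    rw [Set.image_singleton] at ht
    by_cases hτ : τ 1 = 1
    · rw [hτ] at ht
      exact ⟨t, ht⟩
    exfalso
    have hτ0 : τ 1 = 0 := by
      revert hτ
      generalize τ 1 = x
      revert x
      decide
    rw [hτ0] at ht
    -- `PJ {1} ↦ PJ {0}` up to conjugation
    have hback : ∀ i, PJ P e {i} = (R {σ i}).map (MulAut.conj g⁻¹).toMonoidHom := by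
      intro i
      rw [← hσ]
      show PJ P e {i} = ((PJ P e {i}).map (MulAut.conj g).toMonoidHom).map (MulAut.conj g⁻¹).toMonoidHom
      rw [map_conj_conj, inv_mul_cancel, map_conj_one]
    have h2 : (R {σ 1}).map α.toMonoidHom =
        (R {σ 0}).map (MulAut.conj (α g * (t * g⁻¹))).toMonoidHom := by
      have h3 : R {σ 1} = (PJ P e {1}).map (MulAut.conj g).toMonoidHom := (hσ 1).symm
      rw [h3, map_conj_map, ht, map_conj_conj]
      have h4 := hback 0
      conv_lhs => rw [h4]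
      rw [map_conj_conj]
      congr 3
      group
    have h01 : σ 0 ≠ σ 1 := fun h => absurd (hσi h) (by decide)
    have hcase : (σ 1 = 0 ∧ σ 0 = 1) ∨ (σ 1 = 1 ∧ σ 0 = 0) := by
      revert h01
      generalize σ 0 = x
      generalize σ 1 = y
      revert x y
      decide
    rcases hcase with ⟨h5, h6⟩ | ⟨h5, h6⟩
    · rw [h5, h6] at h2
      exact no_map hR hsw α _ h2
    · rw [h5, h6] at h2
      generalize α g * (t * g⁻¹) = x at h2
      have h3 : ((R {1}).map α.toMonoidHom).map α.symm.toMonoidHom =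
          ((R {0}).map (MulAut.conj x).toMonoidHom).map α.symm.toMonoidHom := by rw [h2]
      rw [Cfsg.Agent.H694.map_map_symm α (R {1}), map_conj_map] at h3
      refine no_map hR hsw α.symm (α.symm x)⁻¹ ?_
      rw [h3, map_conj_conj, inv_mul_cancel, map_conj_one]
  · obtain ⟨h2, -⟩ := parity_B (le_refl 2) cs
    have h4 := index_mod e cs hcs (hr.odd_of_ne_two hr2) hs {i | cB 2 i = 0}
    rw [Nat.even_iff, h4, h2]

end Cfsg.Agent.H494.R4
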