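import Cfsg.Agent.H494.R4.OddExt
import Cfsg.Agent.H727.Orth.Mod2
import Cfsg.Agent.Characters.Counting

/-!
# Sylow-stable real characters of odd degree (helper494, S4554)

* `exists_fixed_aut` : a `2`-group of automorphisms fixes an irreducible character in a stable set of odd size;
* `exists_odd_at` : `x ≠ 1` real with a class stable under the `2`-group `T` of automorphisms: a `T`-stable real
  irreducible character of odd degree, not `1`, not zero at `x`;
* `rd_odd` : the degrees in `G`.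
-/

set_option autoImplicit false
set_option linter.unusedSectionVars false

namespace Cfsg.Agent.H494.R4

open Cfsg Cfsg.Agent.Characters Cfsg.Agent.Blocks Cfsg.Agent.H686.CharKit
open Cfsg.Agent.H727.Orth Cfsg.Agent.H619.R4
open Cfsg.Agent.H705.StrongLin (ind ind_eq real_of_ind)
open Cfsg.Agent.H694 (ind_cases ind_eq_zero_iff cj cj_cj charDegree_cj sum_eq_sum_real real_of_ind_ne)
open scoped ComplexConjugate

universe u

section

variable {S : Type u} [Group S] [Finite S]

/-- the action of an automorphism on characters -/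
noncomputable def autIrr (a : MulAut S) (χ : IrrCharacter S) : IrrCharacter S :=
  ⟨fun s => (χ : S → ℂ) (a⁻¹ s), Core.isIrr_comp (a⁻¹ : MulAut S).toMonoidHom (a⁻¹ : MulAut S).surjective χ.2⟩

theorem autIrr_apply (a : MulAut S) (χ : IrrCharacter S) (s : S) : (autIrr a χ : S → ℂ) s = (χ : S → ℂ) (a⁻¹ s) := rfl

/-- A `2`-group of automorphisms fixes a character in a stable set of odd size. -/
theorem exists_fixed_aut (T : Subgroup (MulAut S)) (hT : IsPGroup 2 T) (X : Set (IrrCharacter S))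
    (hX : Odd (Nat.card X)) (hinv : ∀ a ∈ T, ∀ χ ∈ X, autIrr a χ ∈ X) :
    ∃ χ ∈ X, T ≤ stab (χ : S → ℂ) := by
  classical
  let act : MulAction T X :=
    { smul := fun a χ => ⟨autIrr (a : MulAut S) χ.1, hinv _ a.2 _ χ.2⟩
      one_smul := fun χ => Subtype.ext (Subtype.ext (by
        funext s
        show (χ.1 : S → ℂ) (((1 : MulAut S)⁻¹ : MulAut S) s) = _
        rw [inv_one]
        rfl))
      mul_smul := fun a b χ => Subtype.ext (Subtype.ext (by
        funext s
        show (χ.1 : S → ℂ) ((((a : MulAut S) * b)⁻¹ : MulAut S) s) =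
          (χ.1 : S → ℂ) ((b : MulAut S)⁻¹ ((a : MulAut S)⁻¹ s))
        rw [mul_inv_rev]
        rfl)) }
  have := Core.finite_irr (G := S)
  haveI : Fact (Nat.Prime 2) := ⟨Nat.prime_two⟩
  have h1 := hT.card_modEq_card_fixedPoints X
  have h2 : Odd (Nat.card (MulAction.fixedPoints T X)) := by
    rw [Nat.odd_iff] at hX ⊢
    rw [← hX]
    exact h1.symm
  obtain ⟨χ, hχ⟩ : (MulAction.fixedPoints T X).Nonempty := by
    rw [Set.nonempty_iff_ne_empty]
    intro h3
    rw [h3] at h2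
    simp at h2
  refine ⟨χ.1, χ.2, fun a ha s => ?_⟩
  have h3 : ((⟨a⁻¹, T.inv_mem ha⟩ : T) • χ : X) = χ := hχ _
  have h4 := congrFun (congrArg (fun z : X => (z.1 : S → ℂ)) h3) s
  have h5 : (χ.1 : S → ℂ) (((a⁻¹)⁻¹ : MulAut S) s) = (χ.1 : S → ℂ) s := h4
  rwa [inv_inv] at h5

/-- **Parity at an element.** -/
theorem exists_odd_at {x : S} (hx : x ≠ 1) (hr : IsConj x x⁻¹) (T : Subgroup (MulAut S)) (hst : ∀ a ∈ T, IsConj x (a x))
    (hT : IsPGroup 2 T) :
    ∃ χ : IrrCharacter S, (∀ s, ((χ : S → ℂ) s).im = 0) ∧ Odd (charDegree (χ : S → ℂ)) ∧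
      (χ : S → ℂ) ≠ 1 ∧ (χ : S → ℂ) x ≠ 0 ∧ T ≤ stab (χ : S → ℂ) := by
  classical
  have := Fintype.ofFinite S
  have := Core.finite_irr (G := S)
  have := Fintype.ofFinite (IrrCharacter S)
  have hint : ∀ χ : IrrCharacter S, (χ : S → ℂ) x ∈ integralClosure ℤ ℂ := fun χ =>
    Characters.GaloisBasic.isIntegral_apply (Core.isIrr_isCharacter χ.2) x
  obtain ⟨v, hv⟩ : ∃ v : IrrCharacter S → OI, ∀ χ, ((v χ : OI) : ℂ) = (χ : S → ℂ) x :=
    ⟨fun χ => ⟨_, hint χ⟩, fun _ => rfl⟩
  obtain ⟨one, hone⟩ : ∃ one : IrrCharacter S, (one : S → ℂ) = 1 := ⟨⟨1, Core.isIrr_one⟩, rfl⟩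
  obtain ⟨f, hf⟩ : ∃ f : IrrCharacter S → O2, ∀ χ, f χ = red ((charDegree (χ : S → ℂ) : OI) * v χ) :=
    ⟨_, fun _ => rfl⟩
  have hcl : ∀ (χ : IrrCharacter S) {a b : S}, IsConj a b → (χ : S → ℂ) a = (χ : S → ℂ) b := by
    intro χ a b h
    obtain ⟨c, rfl⟩ := isConj_iff.1 h
    exact (Core.isIrr_isClassFunction χ.2 a c).symm
  -- the sum of all terms is zero
  have h1 : ∑ χ : IrrCharacter S, f χ = 0 := by
    have h2 : ∑ χ : IrrCharacter S, ((charDegree (χ : S → ℂ) : OI) * v χ) = 0 := by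
      have h3 := Characters.Counting.sum_irr_one_mul x
      rw [if_neg hx] at h3
      apply Subtype.ext
      push_cast
      rw [← h3]
      refine Finset.sum_congr rfl fun χ _ => ?_
      rw [hv, Cfsg.Agent.Blocks.Basic.irr_one_eq_charDegree χ.2]
    rw [Finset.sum_congr rfl fun χ _ => hf χ, ← map_sum, h2, map_zero]
  have hfone : f one = 1 := by
    rw [hf]
    have h2 : charDegree (one : S → ℂ) = 1 := by
      have h3 := Cfsg.Agent.Blocks.Basic.irr_one_eq_charDegree one.2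
      rw [hone, Pi.one_apply] at h3
      rw [hone]
      exact_mod_cast h3.symm
    have h3 : v one = 1 := by
      apply Subtype.ext
      rw [hv, hone]
      rfl
    rw [h2, h3, Nat.cast_one, one_mul, map_one]
  have hcj : ∀ χ, f (cj χ) = f χ := by
    intro χ
    rw [hf, hf, charDegree_cj]
    congr 2
    apply Subtype.ext
    rw [hv, hv]
    show conj ((χ : S → ℂ) x) = _
    rw [← Core.isCharacter_apply_inv (Core.isIrr_isCharacter χ.2)]
    exact (hcl χ hr).symm
  have h2 := sum_eq_sum_real add_self_zero f hcj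
  rw [h1] at h2
  have h3 : ∑ᶠ χ ∈ {χ : IrrCharacter S | ind (χ : S → ℂ) ≠ 0}, f χ =
      ∑ χ ∈ Finset.univ.filter (fun χ : IrrCharacter S => ind (χ : S → ℂ) ≠ 0), f χ := by
    rw [← finsum_mem_coe_finset]
    congr 1
    funext χ
    simp
  rw [h3] at h2
  have hind1 : ind (one : S → ℂ) ≠ 0 := by
    intro h
    obtain ⟨s, hs⟩ := (ind_eq_zero_iff one.2).1 h
    rw [hone] at hs
    simp at hs
  have h4 : one ∈ Finset.univ.filter (fun χ : IrrCharacter S => ind (χ : S → ℂ) ≠ 0) := by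
    rw [Finset.mem_filter]
    exact ⟨Finset.mem_univ _, hind1⟩
  rw [← Finset.add_sum_erase _ _ h4, hfone] at h2
  have h5 : ∑ χ ∈ (Finset.univ.filter (fun χ : IrrCharacter S => ind (χ : S → ℂ) ≠ 0)).erase one, f χ ≠ 0 := by
    intro h
    rw [h, add_zero] at h2
    exact one_ne_zero h2.symm
  obtain ⟨r, hr0, hrodd⟩ := exists_odd_fiber add_self_zero f _ h5
  obtain ⟨X, hX⟩ : ∃ X : Set (IrrCharacter S), X = {χ : IrrCharacter S | (ind (χ : S → ℂ) ≠ 0 ∧ χ ≠ one) ∧ f χ = r} := ⟨_, rfl⟩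
  have hXc : Odd (Nat.card X) := by
    have h6 : Nat.card X = (((Finset.univ.filter (fun χ : IrrCharacter S => ind (χ : S → ℂ) ≠ 0)).erase one).filter
        fun χ : IrrCharacter S => f χ = r).card := by
      rw [Nat.card_eq_fintype_card, ← Set.toFinset_card]
      congr 1
      ext χ
      rw [Set.mem_toFinset, hX, Finset.mem_filter, Finset.mem_erase, Finset.mem_filter]
      exact ⟨fun h => ⟨⟨h.1.2, Finset.mem_univ _, h.1.1⟩, h.2⟩, fun h => ⟨⟨h.1.2.2, h.1.1⟩, h.2⟩⟩
    rw [h6]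
    exact hrodd
  obtain ⟨χ, hχX, hχT⟩ := exists_fixed_aut T hT X hXc (by
    intro a haT χ hχ
    rw [hX] at hχ ⊢
    obtain ⟨⟨h6, h7⟩, h8⟩ := hχ
    refine ⟨⟨?_, ?_⟩, ?_⟩
    · intro h9
      apply h6
      obtain ⟨s, hs⟩ := (ind_eq_zero_iff (autIrr a χ).2).1 h9
      exact (ind_eq_zero_iff χ.2).2 ⟨_, hs⟩
    · intro h9
      apply h7
      apply Subtype.ext
      rw [hone]
      funext s
      have h10 := congrFun (congrArg (fun z : IrrCharacter S => (z : S → ℂ)) h9) (a s)
      have h11 : (χ : S → ℂ) (a⁻¹ (a s)) = (one : S → ℂ) (a s) := h10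
      rw [MulAut.inv_apply_self, hone] at h11
      exact h11
    · rw [← h8, hf, hf]
      have h9 : charDegree (autIrr a χ : S → ℂ) = charDegree (χ : S → ℂ) := by
        have h10 : (charDegree (autIrr a χ : S → ℂ) : ℂ) = charDegree (χ : S → ℂ) := by
          rw [← Cfsg.Agent.Blocks.Basic.irr_one_eq_charDegree (autIrr a χ).2,
            ← Cfsg.Agent.Blocks.Basic.irr_one_eq_charDegree χ.2, autIrr_apply, map_one]
        exact_mod_cast h10
      rw [h9]
      congr 2
      apply Subtype.ext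
      rw [hv, hv, autIrr_apply]
      exact (hcl χ (hst a⁻¹ (T.inv_mem haT))).symm)
  rw [hX] at hχX
  obtain ⟨⟨h6, h7⟩, h8⟩ := hχX
  have h9 : f χ ≠ 0 := by rw [h8]; exact hr0
  rw [hf, map_mul] at h9
  refine ⟨χ, fun s => real_of_ind_ne χ.2 h6 s, ?_, ?_, ?_, hχT⟩
  · by_contra ho
    rw [Nat.not_odd_iff_even] at ho
    obtain ⟨k, hk⟩ := ho
    apply h9
    have h10 : ((charDegree (χ : S → ℂ) : ℕ) : OI) = 2 * (k : OI) := by
      rw [hk]
      push_cast
      ring
    rw [h10, red_two_mul, zero_mul]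
  · intro h10
    exact h7 (Subtype.ext (h10.trans hone.symm))
  · intro h10
    apply h9
    have h11 : v χ = 0 := by
      apply Subtype.ext
      rw [hv, h10]
      rfl
    rw [h11, map_zero, mul_zero]

end

/-- **Odd degrees from Sylow-stable characters.** -/
theorem rd_odd {S : Type u} [Group S] [Finite S] (hc : Subgroup.center S = ⊥) (hp : pResidual 2 S = ⊤)
    (T : Sylow 2 (MulAut S)) {θ : S → ℂ} (h1 : IsIrrCharacter S θ) (hr : ∀ s, (θ s).im = 0)
    (ho : Odd (charDegree θ)) (hT : (T : Subgroup (MulAut S)) ≤ stab θ) (hne : ∃ s, θ s ≠ θ 1)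
    {G : Type u} [Group G] [Finite G] (N : Subgroup G) [N.Normal] (f : S ≃* N)
    (hC : Subgroup.centralizer (N : Set G) = ⊥) : ∃ k, Odd k ∧ RD G N (k * charDegree θ) := by
  classical
  haveI : Fact (Nat.Prime 2) := ⟨Nat.prime_two⟩
  let Q : Sylow 2 G := default
  let Q' : Subgroup (MulAut S) := (Q : Subgroup G).map (act N f)
  have hQ' : IsPGroup 2 Q' := Q.2.map _
  obtain ⟨T', hT'⟩ := hQ'.exists_le_sylow
  obtain ⟨b, hb⟩ := MulAction.exists_smul_eq (MulAut S) T' T
  -- the conjugate character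
  have h2 : IsIrrCharacter S (fun s => θ (b s)) := Core.isIrr_comp b.toMonoidHom b.surjective h1
  have h3 : (charDegree fun s => θ (b s)) = charDegree θ := by
    rw [charDegree, charDegree, map_one]
  have h4 := oext_of_odd hc hp h2 (fun s => hr _) (by rw [h3]; exact ho)
  obtain ⟨s, hs⟩ := hne
  have h5 := rd_of_oext h2 ⟨b⁻¹ s, by
    show θ (b (b⁻¹ s)) ≠ θ (b 1)
    rw [MulAut.apply_inv_self, map_one]
    exact hs⟩ h4 N f
  rw [h3] at h5
  refine ⟨_, ?_, h5⟩
  have h6 : (Q : Subgroup G) ≤ stb N f (fun s => θ (b s)) := by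
    intro g hg
    have h7 : act N f g ∈ (T' : Subgroup (MulAut S)) := hT' ⟨g, hg, rfl⟩
    have h8 : b * act N f g * b⁻¹ ∈ (T : Subgroup (MulAut S)) := by
      rw [← hb]
      exact ⟨act N f g, h7, rfl⟩
    have h9 := hT h8
    intro s
    show θ (b (act N f g s)) = θ (b s)
    have h10 := h9 (b s)
    have h11 : (b * act N f g * b⁻¹ : MulAut S) (b s) = b (act N f g s) := by
      show b (act N f g (b⁻¹ (b s))) = _
      rw [MulAut.inv_apply_self]
    rwa [h11] at h10
  have h7 : Odd (Q : Subgroup G).index := by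
    have := Q.not_dvd_index
    exact Nat.odd_iff.2 (by omega)
  exact h7.of_dvd_nat (Subgroup.index_dvd_of_le h6)

end Cfsg.Agent.H494.R4
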