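import Cfsg.Agent.H494.R4.PointOdd
import Cfsg.Agent.H692.RealOver
import Cfsg.Agent.H949.LieDZ
import Cfsg.Agent.H610.OddReg

/-!
# A second odd degree from real unipotent elements (helper494, S4554)

* `SecondOdd r S` : in all groups `G` with a normal subgroup `N ≅ S`, `C_G(N) = 1`, there is `RD G N d` with `d` odd
  and not a power of `r`;
* `of_point` : from a real `r`-element `x ≠ 1` with a class stable under a Sylow `2`-subgroup of `Aut(S)`;
* `of_classes` : from a stable set of real `r`-elements forming an odd number of classes.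
-/

set_option autoImplicit false
set_option linter.unusedSectionVars false

namespace Cfsg.Agent.H494.R4

open Cfsg Cfsg.Agent.Characters Cfsg.Agent.Blocks Cfsg.Agent.H686.CharKit
open Cfsg.Agent.H727.Orth Cfsg.Agent.H619.R4
open scoped ComplexConjugate

universe u

/-- a real irreducible character of odd degree, not a power of `r`, not trivial on `N` -/
def SecondOdd (r : ℕ) (S : Type u) [Group S] : Prop :=
  ∀ (G : Type u) [Group G] [Finite G] (N : Subgroup G) [N.Normal], Nonempty (S ≃* N) →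
    Subgroup.centralizer (N : Set G) = ⊥ → ∃ d, Odd d ∧ (∀ k, d ≠ r ^ k) ∧ RD G N d

theorem SecondOdd.congr {r : ℕ} {S S' : Type u} [Group S] [Group S'] (e : S ≃* S') (h : SecondOdd r S) :
    SecondOdd r S' := fun G _ _ N _ f hC => h G N (f.map fun f => e.trans f) hC

section

variable {S : Type u} [Group S] [Finite S] [IsSimpleGroup S]

theorem center_bot (hna : ∃ a b : S, a * b ≠ b * a) : Subgroup.center S = ⊥ := H949.LieDZ.center_eq_bot hna

theorem resid_top (hna : ∃ a b : S, a * b ≠ b * a) : pResidual 2 S = ⊤ := by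
  refine Cfsg.Agent.H903.DihSimple.pResidual_eq_top ?_
  intro H hH
  have hn : H.Normal := Subgroup.normal_of_index_eq_two hH
  rcases hn.eq_bot_or_eq_top with h | h
  · rw [h, Subgroup.index_bot] at hH
    have : Fact (Nat.Prime 2) := ⟨Nat.prime_two⟩
    have : IsCyclic S := isCyclic_of_prime_card hH
    obtain ⟨a, b, hab⟩ := hna
    obtain ⟨g, hg⟩ := IsCyclic.exists_zpow_surjective (G := S)
    obtain ⟨m, rfl⟩ := hg a
    obtain ⟨n, rfl⟩ := hg b
    exact hab (by rw [← zpow_add, ← zpow_add, add_comm])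
  · rw [h, Subgroup.index_top] at hH
    exact absurd hH (by norm_num)

/-- **A second odd degree from a character.** -/
theorem of_char (hna : ∃ a b : S, a * b ≠ b * a) {r : ℕ} (hr : r.Prime) (T : Sylow 2 (MulAut S))
    {θ : S → ℂ} (h1 : IsIrrCharacter S θ) (h2 : ∀ s, (θ s).im = 0) (h3 : Odd (charDegree θ)) (h4 : θ ≠ 1)
    (hT : (T : Subgroup (MulAut S)) ≤ stab θ) (hpow : ∀ k, charDegree θ ≠ r ^ k) : SecondOdd r S := by
  intro G _ _ N _ ⟨f⟩ hC
  have hne : charDegree θ ≠ 1 := by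
    intro h
    exact hpow 0 (by rw [h, pow_zero])
  obtain ⟨k, hk, hd⟩ := rd_odd (center_bot hna) (resid_top hna) T h1 h2 h3 hT (ne_of_degree h1 hne) N f hC
  refine ⟨_, hk.mul h3, ?_, hd⟩
  intro j hj
  have h5 : charDegree θ ∣ r ^ j := hj ▸ dvd_mul_left _ _
  obtain ⟨i, -, hi⟩ := (Nat.dvd_prime_pow hr).1 h5
  exact hpow i hi

/-- **A second odd degree from a real unipotent element.** -/
theorem of_point (hna : ∃ a b : S, a * b ≠ b * a) {r : ℕ} (hr : r.Prime) (hS : IsLieTypeChar r S)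
    (T : Sylow 2 (MulAut S)) {x : S} (hx : x ≠ 1) (hxr : ∃ k, x ^ r ^ k = 1) (hreal : IsConj x x⁻¹)
    (hst : ∀ a ∈ (T : Subgroup (MulAut S)), IsConj x (a x)) : SecondOdd r S := by
  obtain ⟨χ, h1, h2, h3, h4, h5⟩ := exists_odd_at hx hreal T hst T.2
  refine of_char hna hr T χ.2 h1 h2 h3 h5 ?_
  intro k hk
  apply h4
  have h6 := H949.LieDZ.defect_zero_of_pow hna hr hS χ.2 h3 hk
  refine H692.RealOver.defect_zero_vanish χ.2 r hr h6 ?_
  obtain ⟨j, hj⟩ := hxr
  have h7 := orderOf_dvd_of_pow_eq_one hj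
  obtain ⟨i, -, hi⟩ := (Nat.dvd_prime_pow hr).1 h7
  rw [hi]
  refine dvd_pow_self r ?_
  rintro rfl
  rw [pow_zero, orderOf_eq_one_iff] at hi
  exact hx hi

/-- **A second odd degree from a set of real unipotent elements forming an odd number of classes.** -/
theorem of_classes (hna : ∃ a b : S, a * b ≠ b * a) {r : ℕ} (hr : r.Prime) (hS : IsLieTypeChar r S) (Y : Set S)
    (hY : ∀ a : MulAut S, ∀ y ∈ Y, a y ∈ Y)
    (hL : ∀ y ∈ Y, y ≠ 1 ∧ (∃ k, y ^ r ^ k = 1) ∧ IsConj y y⁻¹)
    (hodd : Odd (Nat.card {c : ConjClasses S // ∃ y ∈ Y, c = ConjClasses.mk y})) : SecondOdd r S := by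
  classical
  haveI : Fact (Nat.Prime 2) := ⟨Nat.prime_two⟩
  let P : Sylow 2 (MulAut S) := default
  let X := {c : ConjClasses S // ∃ y ∈ Y, c = ConjClasses.mk y}
  let act : MulAction P X :=
    { smul := fun a c => ⟨ConjClasses.map ((a : MulAut S) : S ≃* S).toMonoidHom c.1, by
        obtain ⟨y, hy, hcy⟩ := c.2
        exact ⟨(a : MulAut S) y, hY _ _ hy, by rw [hcy]; rfl⟩⟩
      one_smul := fun c => Subtype.ext (by
        obtain ⟨c, y, hy, rfl⟩ := c
        rfl)
      mul_smul := fun a b c => Subtype.ext (by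
        obtain ⟨c, y, hy, rfl⟩ := c
        rfl) }
  have h1 := P.2.card_modEq_card_fixedPoints X
  have h2 : Odd (Nat.card (MulAction.fixedPoints P X)) := by
    rw [Nat.odd_iff] at hodd ⊢
    rw [← hodd]
    exact h1.symm
  obtain ⟨c, hcf⟩ : (MulAction.fixedPoints P X).Nonempty := by
    rw [Set.nonempty_iff_ne_empty]
    intro h3
    rw [h3] at h2
    simp at h2
  obtain ⟨c, y, hy, rfl⟩ := c
  obtain ⟨h3, h4, h5⟩ := hL y hy
  refine of_point hna hr hS P h3 h4 h5 fun a ha => ?_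
  have h6 : (⟨a, ha⟩ : P) • (⟨ConjClasses.mk y, y, hy, rfl⟩ : X) = ⟨ConjClasses.mk y, y, hy, rfl⟩ := hcf ⟨a, ha⟩
  have h7 : ConjClasses.mk (a y) = ConjClasses.mk y := congrArg Subtype.val h6
  exact (ConjClasses.mk_eq_mk_iff_isConj.1 h7).symm

/-- the elements of `Yset` -/
theorem of_ocAt (hna : ∃ a b : S, a * b ≠ b * a) {r : ℕ} (hr : r.Prime) (hS : IsLieTypeChar r S)
    (h : H610.OddOC.OcAt r S) : SecondOdd r S := by
  obtain ⟨-, -, h1, h2⟩ := h
  exact of_classes hna hr hS (H610.OddOC.Yset r S) (fun a y hy => (H610.OddOC.mem_Yset_iff a y).2 hy)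
    (fun y hy => ⟨hy.1, hy.2.1, h1 y hy⟩) h2

end

end Cfsg.Agent.H494.R4
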