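import Cfsg.Agent.H494.R4.RegUni
import Cfsg.Agent.H685.R4.Base
import Cfsg.Agent.H949.SubInv

/-!
# A second odd degree from a characteristic class of subgroups (helper494, S4554)

`second_of_subgroup` : `H ≤ S` mapped to its conjugates by all automorphisms, `|S : H|` even, `r ∣ |H ∩ H^x|` for all
`x`: then `SecondOdd r S`.
-/

set_option autoImplicit false
set_option linter.unusedSectionVars false

namespace Cfsg.Agent.H494.R4

open Cfsg Cfsg.Agent.Characters Cfsg.Agent.Blocks Cfsg.Agent.H686.CharKit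
open Cfsg.Agent.H727.Orth Cfsg.Agent.H619.R4
open Cfsg.Agent.H705.StrongLin (ind ind_eq real_of_ind)
open Cfsg.Agent.H694 (ind_cases ind_eq_zero_iff cj cj_cj charDegree_cj sum_eq_sum_real real_of_ind_ne)
open Cfsg.Agent.H685.R4 (mult mult_spec mult_eq_zero_iff mult_cIrr cIrr sum_deg_mult triv mult_triv deg_triv)
open scoped ComplexConjugate

universe u

theorem zmod_two : ∀ z : ZMod 2, z + z = 0 := by decide

variable {S : Type u} [Group S] [Finite S]

theorem mult_autIrr (H : Subgroup S) [Fintype H] (χ : IrrCharacter S) (a : MulAut S) {g : S}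
    (hg : H.map (a⁻¹ : MulAut S).toMonoidHom = H.map (MulAut.conj g).toMonoidHom) :
    mult H (autIrr a χ) = mult H χ := by
  classical
  have hH : (Nat.card H : ℂ) ≠ 0 := by exact_mod_cast Nat.card_pos.ne'
  have h1 := mult_spec H (autIrr a χ)
  have h2 := mult_spec H χ
  have h3 : ∑ h : H, (autIrr a χ : S → ℂ) h = ∑ h : H, (χ : S → ℂ) h := by
    have hK : ∀ (K K' : Subgroup S) (hKK : K = K') [Fintype K] [Fintype K'],
        ∑ h : K, (χ : S → ℂ) h = ∑ h : K', (χ : S → ℂ) h := by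
      rintro K _ rfl i1 i2
      rw [Subsingleton.elim i1 i2]
    have := Fintype.ofFinite (H.map (a⁻¹ : MulAut S).toMonoidHom)
    have := Fintype.ofFinite (H.map (MulAut.conj g).toMonoidHom)
    have e1 : ∑ h : H, (autIrr a χ : S → ℂ) h = ∑ h : H.map (a⁻¹ : MulAut S).toMonoidHom, (χ : S → ℂ) h :=
      Fintype.sum_equiv (H.equivMapOfInjective (a⁻¹ : MulAut S).toMonoidHom (a⁻¹ : MulAut S).injective).toEquiv
        (fun h : H => (autIrr a χ : S → ℂ) h)
        (fun h : H.map (a⁻¹ : MulAut S).toMonoidHom => (χ : S → ℂ) h) (fun h => rfl)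
    have e2 : ∑ h : H, (χ : S → ℂ) h = ∑ h : H.map (MulAut.conj g).toMonoidHom, (χ : S → ℂ) h :=
      Fintype.sum_equiv (H.equivMapOfInjective (MulAut.conj g).toMonoidHom (MulAut.conj g).injective).toEquiv
        (fun h : H => (χ : S → ℂ) h)
        (fun h : H.map (MulAut.conj g).toMonoidHom => (χ : S → ℂ) h) (fun h => by
          show (χ : S → ℂ) h = (χ : S → ℂ) (g * (h : S) * g⁻¹)
          exact (Core.isIrr_isClassFunction χ.2 (h : S) g).symm)
    rw [e1, e2]
    exact hK _ _ hg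
  rw [h3, h2] at h1
  exact_mod_cast (mul_left_cancel₀ hH h1).symm

/-- **A second odd degree from a characteristic class of subgroups.** -/
theorem second_of_subgroup [IsSimpleGroup S] (hna : ∃ a b : S, a * b ≠ b * a) {r : ℕ} (hr : r.Prime)
    (hS : IsLieTypeChar r S) (H : Subgroup S)
    (hα : ∀ α : S ≃* S, ∃ g : S, H.map α.toMonoidHom = H.map (MulAut.conj g).toMonoidHom) (heven : Even H.index)
    (hdvd : ∀ x : S, r ∣ Nat.card ↥(H ⊓ H.map (MulAut.conj x).toMonoidHom)) : SecondOdd r S := by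
  classical
  haveI : Fact (Nat.Prime 2) := ⟨Nat.prime_two⟩
  have := Fintype.ofFinite S
  have := Fintype.ofFinite H
  have := Core.finite_irr (G := S)
  have := Fintype.ofFinite (IrrCharacter S)
  let T : Sylow 2 (MulAut S) := default
  have h2 := zmod_two
  obtain ⟨f, hf⟩ : ∃ f : IrrCharacter S → ZMod 2, ∀ χ, f χ = ((charDegree (χ : S → ℂ) * mult H χ : ℕ) : ZMod 2) :=
    ⟨_, fun _ => rfl⟩
  have h0 : ∑ χ : IrrCharacter S, f χ = 0 := by
    rw [Finset.sum_congr rfl fun χ _ => hf χ, ← Nat.cast_sum, sum_deg_mult]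
    exact (ZMod.natCast_eq_zero_iff_even).2 heven
  have hfone : f (triv S) = 1 := by rw [hf, mult_triv, deg_triv]; norm_num
  have hcj : ∀ χ, f (cj χ) = f χ := by
    intro χ
    have h3 : cj χ = cIrr χ := rfl
    rw [hf, hf, charDegree_cj, h3, mult_cIrr]
  have h3 := sum_eq_sum_real h2 f hcj
  rw [h0] at h3
  have h4 : ∑ᶠ χ ∈ {χ : IrrCharacter S | ind (χ : S → ℂ) ≠ 0}, f χ =
      ∑ χ ∈ Finset.univ.filter (fun χ : IrrCharacter S => ind (χ : S → ℂ) ≠ 0), f χ := by
    rw [← finsum_mem_coe_finset]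
    congr 1
    funext χ
    simp
  rw [h4] at h3
  have hind1 : ind ((triv S : IrrCharacter S) : S → ℂ) ≠ 0 := by
    intro h
    obtain ⟨s, hs⟩ := (ind_eq_zero_iff (triv S).2).1 h
    apply hs
    show ((1 : ℂ)).im = 0
    simp
  have h5 : triv S ∈ Finset.univ.filter (fun χ : IrrCharacter S => ind (χ : S → ℂ) ≠ 0) := by
    rw [Finset.mem_filter]
    exact ⟨Finset.mem_univ _, hind1⟩
  rw [← Finset.add_sum_erase _ _ h5, hfone] at h3
  have h6 : ∑ χ ∈ (Finset.univ.filter (fun χ : IrrCharacter S => ind (χ : S → ℂ) ≠ 0)).erase (triv S), f χ ≠ 0 := by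
    intro h
    rw [h, add_zero] at h3
    exact one_ne_zero h3.symm
  obtain ⟨s, hs0, hsodd⟩ := exists_odd_fiber h2 f _ h6
  obtain ⟨X, hX⟩ : ∃ X : Set (IrrCharacter S),
      X = {χ : IrrCharacter S | (ind (χ : S → ℂ) ≠ 0 ∧ χ ≠ triv S) ∧ f χ = s} := ⟨_, rfl⟩
  have hXc : Odd (Nat.card X) := by
    have h6 : Nat.card X = (((Finset.univ.filter (fun χ : IrrCharacter S => ind (χ : S → ℂ) ≠ 0)).erase (triv S)).filter
        fun χ : IrrCharacter S => f χ = s).card := by
      rw [Nat.card_eq_fintype_card, ← Set.toFinset_card]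
      congr 1
      ext χ
      rw [Set.mem_toFinset, hX, Finset.mem_filter, Finset.mem_erase, Finset.mem_filter]
      exact ⟨fun h => ⟨⟨h.1.2, Finset.mem_univ _, h.1.1⟩, h.2⟩, fun h => ⟨⟨h.1.2.2, h.1.1⟩, h.2⟩⟩
    rw [h6]
    exact hsodd
  obtain ⟨χ, hχX, hχT⟩ := exists_fixed_aut (T : Subgroup (MulAut S)) T.2 X hXc (by
    intro a haT χ hχ
    rw [hX] at hχ ⊢
    obtain ⟨⟨h6, h7⟩, h8⟩ := hχ
    refine ⟨⟨?_, ?_⟩, ?_⟩
    · intro h9
      apply h6
      obtain ⟨s, hs⟩ := (ind_eq_zero_iff (autIrr a χ).2).1 h9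
      exact (ind_eq_zero_iff χ.2).2 ⟨_, hs⟩
    · intro h9
      apply h7
      apply Subtype.ext
      funext s
      have h10 := congrFun (congrArg (fun z : IrrCharacter S => (z : S → ℂ)) h9) (a s)
      have h11 : (χ : S → ℂ) (a⁻¹ (a s)) = 1 := h10
      rw [MulAut.inv_apply_self] at h11
      exact h11
    · rw [← h8, hf, hf]
      have h9 : charDegree (autIrr a χ : S → ℂ) = charDegree (χ : S → ℂ) := by
        have h10 : (charDegree (autIrr a χ : S → ℂ) : ℂ) = charDegree (χ : S → ℂ) := by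
          rw [← Cfsg.Agent.Blocks.Basic.irr_one_eq_charDegree (autIrr a χ).2,
            ← Cfsg.Agent.Blocks.Basic.irr_one_eq_charDegree χ.2, autIrr_apply, map_one]
        exact_mod_cast h10
      obtain ⟨g, hg⟩ := hα (a⁻¹ : MulAut S)
      rw [h9, mult_autIrr H χ a hg])
  rw [hX] at hχX
  obtain ⟨⟨h6, h7⟩, h8⟩ := hχX
  have h9 : f χ ≠ 0 := by rw [h8]; exact hs0
  rw [hf, ne_eq, ZMod.natCast_eq_zero_iff_even, Nat.not_even_iff_odd, Nat.odd_mul] at h9
  refine of_char hna hr T χ.2 (fun s => real_of_ind_ne χ.2 h6 s) h9.1 (fun h => h7 (Subtype.ext h)) hχT ?_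
  intro k hk
  have h10 := H949.LieDZ.defect_zero_of_pow hna hr hS χ.2 (fun h => h7 (Subtype.ext h)) hk
  have h11 := H949.SubInv.sum_eq_zero hr H hdvd χ.2 h10
  rw [← mult_eq_zero_iff] at h11
  rw [h11] at h9
  exact absurd h9.2 (by decide)

end Cfsg.Agent.H494.R4
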