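import Cfsg.Agent.H727.Orth.TitsRow

/-!
# The subgroups of order `2 ^ 11 * 5` of the Tits group are conjugate (helper494)
-/

set_option autoImplicit false
set_option linter.unusedSectionVars false
set_option linter.style.haveILetI false

namespace Cfsg.Agent.H494.R4.TitsFive

open Cfsg.Agent.KFacts.TwF4 Cfsg.Agent.KFacts.TwF4.Full Cfsg.Agent.KFacts.TwF4.Arc
open Cfsg.Agent.KFacts.TwF4.Inv Cfsg.Agent.KFacts.TwF4.SylU
open Cfsg.Agent.SplitTwo Cfsg.Agent.SplitTwo.ZS Cfsg.Agent.TitsThree.RankTwoZ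
open Cfsg.Agent.SplitTwo.RootSysZ Subgroup Cfsg Cfsg.Lie Cfsg.Agent.H248.Ovg Cfsg.Agent.H248.TwF4Over
open Cfsg.Agent.H933.TitsBN (bruhat' card_N28 card_N17 card_half eq_one_of_maps dih_maps eq_of_maps)
open Cfsg.Agent.H694 (map_conj_one map_conj_conj)
open Cfsg.Agent.H727.Orth (sylEquiv exists_conj_eq)

universe u

/-- the subgroups of order `n` are conjugate -/
def ConjAll (X : Type*) [Group X] (n : ℕ) : Prop :=
  ∀ A B : Subgroup X, Nat.card A = n → Nat.card B = n → ∃ g : X, A.map (MulAut.conj g).toMonoidHom = B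

theorem ConjAll.of_equiv {X Y : Type*} [Group X] [Group Y] (e : X ≃* Y) {n : ℕ} (h : ConjAll X n) : ConjAll Y n := by
  intro A B hA hB
  have hc : ∀ A : Subgroup Y, Nat.card (A.map e.symm.toMonoidHom) = Nat.card A := fun A =>
    (Nat.card_congr (A.equivMapOfInjective e.symm.toMonoidHom e.symm.injective).toEquiv).symm
  obtain ⟨g, hg⟩ := h (A.map e.symm.toMonoidHom) (B.map e.symm.toMonoidHom) (by rw [hc, hA]) (by rw [hc, hB])
  refine ⟨e g, ?_⟩
  have h1 : (A.map (MulAut.conj (e g)).toMonoidHom).map e.symm.toMonoidHom = B.map e.symm.toMonoidHom := by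
    rw [← hg, Subgroup.map_map, Subgroup.map_map]
    congr 1
    ext x
    show e.symm (e g * x * (e g)⁻¹) = g * e.symm x * g⁻¹
    rw [map_mul, map_mul, map_inv, MulEquiv.symm_apply_apply]
  exact Subgroup.map_injective e.symm.injective h1

variable {F : Type*} [Field F] [Finite F] {σ : F →+* F} {G : Type u} [Group G] [Finite G] (S : Full σ G)

theorem conj_full {N : Subgroup G} (h01 : ∀ x : F, x = 0 ∨ x = 1) (T : Two F N)
    (_hR : S.R.p = 2) (hidx : N.index = 2) {m : ℕ} (hm : Odd m) (hcard : Nat.card N = 2 ^ 11 * m) :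
    ConjAll ↥N (2 ^ 11 * 5) := by
  classical
  have hfact : Fact (Nat.Prime 2) := ⟨Nat.prime_two⟩
  haveI hNn : N.Normal := normal_of_index_eq_two hidx
  have hcU : Nat.card (J S.XZ 1 8) = 2 ^ 12 := two_card_U S T
  have hUN : ¬ J S.XZ 1 8 ≤ N := fun h =>
    two_e1_not_mem S T 4 (h (mem_J ((mem_X8 S).2 ⟨1, 0, rfl⟩) (by norm_num) (by norm_num)))
  have h0 : Nat.card ((J S.XZ 1 8).subgroupOf N) = 2 ^ 11 := by
    have h1 := card_half (N := N) (H := J S.XZ 1 8) hidx hUN
    rw [hcU] at h1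
    omega
  have h28 : Nat.card ((normalizer (J S.XZ 2 8 : Set G)).subgroupOf N) = 2 ^ 11 * 3 := by
    have h1 := card_half (N := N) (H := normalizer (J S.XZ 2 8 : Set G)) hidx
      (fun h => hUN (H187.TwF4Par.U_le_norm1.trans h))
    rw [card_N28 S h01, hcU] at h1
    omega
  have h17 : Nat.card ((normalizer (J S.XZ 1 7 : Set G)).subgroupOf N) = 2 ^ 11 * 5 := by
    have h1 := card_half (N := N) (H := normalizer (J S.XZ 1 7 : Set G)) hidx
      (fun h => hUN (H187.TwF4Par.U_le_norm2.trans h))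
    rw [card_N17 S h01, hcU] at h1
    omega
  have hcm : ∀ (g : N) (H : Subgroup N), Nat.card (H.map (MulAut.conj g).toMonoidHom) = Nat.card H :=
    fun g H => (Nat.card_congr (H.equivMapOfInjective _ (MulAut.conj g).injective).toEquiv).symm
  have huniq : ∀ K : Subgroup N, Nat.card K = 2 ^ 11 * 5 → (J S.XZ 1 8).subgroupOf N ≤ K →
      K = (normalizer (J S.XZ 1 7 : Set G)).subgroupOf N := by
    intro K hK hle
    have hM : J S.XZ 1 8 ⊓ N ≤ K.map N.subtype := by
      intro x hx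
      exact ⟨⟨x, hx.2⟩, hle hx.1, rfl⟩
    rcases overgroup (two_cond S T) hM with h | h | h
    · exfalso
      have h1 : K = ⊤ := by
        rw [eq_top_iff]
        intro x _
        obtain ⟨y, hy, e⟩ := h x.2
        have : y = x := Subtype.ext e
        rwa [← this]
      rw [h1, Subgroup.card_top] at hK
      have h2 := Subgroup.card_subgroup_dvd_card ((normalizer (J S.XZ 2 8 : Set G)).subgroupOf N)
      rw [hK, h28] at h2
      have h3 := Nat.dvd_of_mul_dvd_mul_left (by positivity) h2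
      norm_num at h3
    · exfalso
      have h2 : K ≤ (normalizer (J S.XZ 2 8 : Set G)).subgroupOf N := fun x hx => h (mem_map_of_mem _ hx)
      have h3 := Subgroup.card_dvd_of_le h2
      rw [hK, h28] at h3
      have h4 := Nat.dvd_of_mul_dvd_mul_left (by positivity) h3
      norm_num at h4
    · refine Subgroup.eq_of_le_of_card_ge (fun x hx => h (mem_map_of_mem _ hx)) ?_
      rw [hK, h17]
  have key : ∀ K : Subgroup N, Nat.card K = 2 ^ 11 * 5 → ∃ g : N,
      K.map (MulAut.conj g).toMonoidHom = (normalizer (J S.XZ 1 7 : Set G)).subgroupOf N := by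
    intro K hK
    obtain ⟨P, hP1, hP2⟩ := (sylEquiv (m := 5) (by decide) K hK).symm (default : Sylow 2 K)
    obtain ⟨g, hg⟩ := exists_conj_eq hm hcard hP1 h0
    refine ⟨g, huniq _ (by rw [hcm, hK]) ?_⟩
    rw [← hg]
    exact Subgroup.map_mono hP2
  intro A B hA hB
  obtain ⟨g, hg⟩ := key A hA
  obtain ⟨k, hk⟩ := key B hB
  refine ⟨k⁻¹ * g, ?_⟩
  rw [← map_conj_conj, hg, ← hk, map_conj_conj, inv_mul_cancel]
  exact map_conj_one _

/-- **the Tits group** -/
theorem conj_tits : ConjAll TitsGroup (2 ^ 11 * 5) := by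
  obtain ⟨hidx, hs, hna, hcard⟩ := Cfsg.Agent.S1074.result
  have hK : Fintype.card (ZMod 2) = 2 ^ (2 * 0 + 1) := by rw [ZMod.card]; rfl
  obtain ⟨φ, hφ⟩ := Cfsg.Agent.ChevalleyStructure.TwF4.TwistedFix.exists_rln hK
  obtain ⟨S, hS⟩ : ∃ S : Full φ ↥(twistedF4 (ZMod 2) 1), S.R.p = 2 := by
    have h0 : ∃ S : Full φ ↥(twistedF4 (ZMod 2) (2 ^ 0)), S.R.p = 2 :=
      ⟨Cfsg.Agent.KFacts.TwF4.Inst.full hK hφ, rfl⟩
    rw [pow_zero] at h0
    exact h0
  have h01 : ∀ x : ZMod 2, x = 0 ∨ x = 1 := by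
    intro x
    fin_cases x
    · exact Or.inl rfl
    · exact Or.inr rfl
  have T : Two (ZMod 2) (commutator ↥(twistedF4 (ZMod 2) 1)) := by
    refine ⟨h01, le_rfl, ?_⟩
    intro h1
    rw [h1, Subgroup.index_top] at hidx
    norm_num at hidx
  have hfin : Finite ↥(twistedF4 (ZMod 2) 1) := inferInstance
  have hfin0 : Finite (ZMod 2) := inferInstance
  have hodd : Odd (3 ^ 3 * 5 ^ 2 * 13) := by decide
  have hc2 : Nat.card TitsGroup = 2 ^ 11 * (3 ^ 3 * 5 ^ 2 * 13) := by
    rw [hcard]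
    norm_num
  exact @conj_full (ZMod 2) _ hfin0 φ _ _ hfin S _ h01 T hS hidx _ hodd hc2

theorem conj_of_iso {X : Type*} [Group X] (h : IsoTits X) : ConjAll X (2 ^ 11 * 5) := by
  obtain ⟨e⟩ := h
  have e' := e.symm
  exact @ConjAll.of_equiv TitsGroup X inferInstance inferInstance e' (2 ^ 11 * 5) conj_tits

end Cfsg.Agent.H494.R4.TitsFive
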