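import Cfsg.Agent.H619.R4.SporBase
import Cfsg.Agent.H710.R4.Sph
import Cfsg.Agent.H678.DG.Tits
import Cfsg.Agent.H707.Odd.Tits
import Cfsg.Agent.H867.TitsOut
import Cfsg.Agent.H494.R4.TitsFive

/-!
# S4554: the row of the Tits group (helper494)

`G` with `F*(G) = N` the Tits group acts on the 1755 points of the generalized octagon: the constituents of degrees
78, 650 and 351 of the permutation character of `N` extend to rational characters of `G`.
-/

set_option autoImplicit false
set_option maxRecDepth 100000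
set_option exponentiation.threshold 5000

namespace Cfsg.Agent.H494.R4.TitsAct

open Cfsg Cfsg.Agent.H707.RowTitsModel Cfsg.Agent.H619.R4 Cfsg.Agent.H494.R4.TitsFive
open Cfsg.Agent.SporadicB.RuData Cfsg.Agent.SporadicB.RuOrder Cfsg.Agent.SporadicB.RuTitsData
open Cfsg.Agent.SporadicB.RuTits
open Cfsg.Agent.Lib.BitNet Cfsg.Agent.Lib.BitNetSimple

universe u

/-! ### stabilizers -/

section perm

variable {X : Type*} [Finite X] {Q : Subgroup (Equiv.Perm X)}

theorem map_stab {Q : Type*} [Group Q] {X : Type*} [MulAction Q X] (g : Q) (x : X) :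
    (MulAction.stabilizer Q x).map (MulAut.conj g).toMonoidHom = MulAction.stabilizer Q (g • x) := by
  ext h
  constructor
  · rintro ⟨k, hk, rfl⟩
    rw [SetLike.mem_coe, MulAction.mem_stabilizer_iff] at hk
    rw [MulAction.mem_stabilizer_iff]
    show (g * k * g⁻¹) • g • x = g • x
    rw [mul_smul, mul_smul, inv_smul_smul, hk]
  · intro h1
    rw [MulAction.mem_stabilizer_iff] at h1
    refine ⟨g⁻¹ * h * g, ?_, ?_⟩
    · rw [SetLike.mem_coe, MulAction.mem_stabilizer_iff, mul_smul, mul_smul, h1, inv_smul_smul]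
    · show g * (g⁻¹ * h * g) * g⁻¹ = h
      group

theorem cent_bot (hinj : ∀ x y : X, MulAction.stabilizer Q x = MulAction.stabilizer Q y → x = y) :
    Subgroup.centralizer (Q : Set (Equiv.Perm X)) = ⊥ := by
  rw [eq_bot_iff]
  intro z hz
  rw [Subgroup.mem_centralizer_iff] at hz
  rw [Subgroup.mem_bot]
  ext x
  refine (hinj _ _ ?_).symm
  ext q
  rw [MulAction.mem_stabilizer_iff, MulAction.mem_stabilizer_iff]
  have h1 : q • z x = z (q • x) := congrArg (fun w : Equiv.Perm X => w x) (hz q q.2)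
  show q • x = x ↔ q • z x = z x
  rw [h1]
  exact z.injective.eq_iff.symm

theorem exists_perm {n : ℕ} (hconj : ConjAll Q n) (hst : ∀ x : X, Nat.card (MulAction.stabilizer Q x) = n)
    (hinj : ∀ x y : X, MulAction.stabilizer Q x = MulAction.stabilizer Q y → x = y) (σ : MulAut Q) :
    ∃ p : Equiv.Perm X, ∀ x : Q, ((σ x : Q) : Equiv.Perm X) = p * x * p⁻¹ := by
  have h1 : ∀ x : X, ∃ y : X, (MulAction.stabilizer Q x).map σ.toMonoidHom = MulAction.stabilizer Q y := by
    intro x
    obtain ⟨g, hg⟩ := hconj (MulAction.stabilizer Q x) ((MulAction.stabilizer Q x).map σ.toMonoidHom) (hst x) (by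
      rw [← hst x]
      exact (Nat.card_congr ((MulAction.stabilizer Q x).equivMapOfInjective σ.toMonoidHom σ.injective).toEquiv).symm)
    exact ⟨g • x, by rw [← hg, map_stab]⟩
  choose f hf using h1
  have hfi : Function.Injective f := by
    intro x y hxy
    apply hinj
    apply Subgroup.map_injective (f := σ.toMonoidHom) σ.injective
    show (MulAction.stabilizer Q x).map σ.toMonoidHom = (MulAction.stabilizer Q y).map σ.toMonoidHom
    rw [hf, hf, hxy]
  have hfq : ∀ (q : Q) (x : X), f (q • x) = σ q • f x := by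
    intro q x
    apply hinj
    rw [← hf, ← map_stab, ← map_stab, ← hf, Subgroup.map_map, Subgroup.map_map]
    congr 1
    ext y
    show ((σ (q * y * q⁻¹) : Q) : Equiv.Perm X) _ = ((σ q * σ y * (σ q)⁻¹ : Q) : Equiv.Perm X) _
    rw [map_mul, map_mul, map_inv]
  refine ⟨Equiv.ofBijective f (Finite.injective_iff_bijective.1 hfi), fun q => ?_⟩
  rw [eq_mul_inv_iff_mul_eq]
  ext x
  show σ q • f x = f (q • x)
  rw [hfq]

end perm

/-! ### the classes -/

theorem kk_inj : Function.Injective H678.DG.Tits.kk := by decide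

theorem htrT (x : X) : ∃ g : T, g • r 0 = r 0 ∧ g • r (cls x) = x := by
  obtain ⟨k, hk⟩ := orb_i (cls x)
  obtain ⟨g, hg, hgx⟩ := exists_of_iterF (b := (r (cls x)).1) gensT1 hk (cls_spec x)
  exact ⟨⟨g, hg.1⟩, Subtype.ext hg.2, Subtype.ext hgx⟩

theorem stab_inj (x y : X) (h : MulAction.stabilizer T x = MulAction.stabilizer T y) : x = y := by
  obtain ⟨g, hg⟩ := H707.Odd.Tits.trans x (r 0)
  have h1 : MulAction.stabilizer T (r 0) = MulAction.stabilizer T (g • y) := by
    rw [← hg, ← map_stab, ← map_stab, h]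
  have hfix : ∀ t : T, t • r 0 = r 0 → t • g • y = g • y := by
    intro t ht
    have h2 : t ∈ MulAction.stabilizer T (g • y) := by
      rw [← h1]
      exact ht
    exact h2
  set z := g • y with hz
  have hone : ∀ w : X, cls w = cls z → w = z := by
    intro w hw
    obtain ⟨s, hs1, hs2⟩ := htrT z
    obtain ⟨t, ht1, ht2⟩ := htrT w
    have h3 : r (cls z) = z := by
      have h4 : s⁻¹ • r 0 = r 0 := by rw [inv_smul_eq_iff, hs1]
      have h5 := hfix _ h4
      rw [inv_smul_eq_iff] at h5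
      exact smul_left_cancel s (hs2.trans h5)
    rw [← ht2, hw, h3]
    exact hfix t ht1
  have hk : H678.DG.Tits.kk (cls z) = 1 := by
    rw [← H678.DG.Tits.card_cls, Finset.card_eq_one]
    refine ⟨z, ?_⟩
    ext w
    rw [Finset.mem_filter, Finset.mem_singleton]
    exact ⟨fun h => hone w h.2, fun h => ⟨Finset.mem_univ _, by rw [h]⟩⟩
  have hk0 : cls z = 0 := kk_inj (hk.trans (by decide))
  have h5 : r 0 = z := hone _ (by rw [cls_r, hk0])
  have h6 : g • x = g • y := hg.trans h5
  exact smul_left_cancel g h6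

theorem card_stab (x : X) : Nat.card (MulAction.stabilizer T x) = 2 ^ 11 * 5 := by
  have hc := Cfsg.Agent.SporadicB.RuTits.card_T
  have hp : MulAction.IsPretransitive T X := H678.DG.Tits.trans
  have h1 := (MulAction.stabilizer T x).card_mul_index
  rw [MulAction.index_stabilizer_of_transitive, Nat.card_eq_fintype_card (α := X), H678.DG.Tits.card_X, hc] at h1
  omega

/-! ### the group `G` -/

section G

variable {G : Type u} [Group G] [Finite G] [MulAction G X] (i : T → G) (hi : ∀ q (x : X), i q • x = q • x)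
  (hn : ∀ (g : G) (q : T), ∃ q' : T, ∀ x : X, (g * i q * g⁻¹) • x = q' • x)

include hn hi in
theorem cls_le (g : G) (hg : g • r 0 = r 0) (x : X) : H678.DG.Tits.kk (cls x) ≤ H678.DG.Tits.kk (cls (g • x)) := by
  rw [← H678.DG.Tits.card_cls, ← H678.DG.Tits.card_cls]
  refine Finset.card_le_card_of_injOn (fun y => g • y) ?_ (fun y _ z _ h => smul_left_cancel g h)
  intro y hy
  have hy' := (Finset.mem_filter.1 hy).2
  refine Finset.mem_coe.2 (Finset.mem_filter.2 ⟨Finset.mem_univ _, ?_⟩)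
  obtain ⟨s, hs1, hs2⟩ := htrT x
  obtain ⟨t, ht1, ht2⟩ := htrT y
  -- `y = (t s⁻¹) x`
  have h1 : (t * s⁻¹) • x = y := by
    rw [← hs2, mul_smul, inv_smul_smul, ← hy', ht2]
  have h2 : (t * s⁻¹) • r 0 = r 0 := by
    rw [mul_smul, (inv_smul_eq_iff.2 hs1.symm), ht1]
  obtain ⟨q', hq'⟩ := hn g (t * s⁻¹)
  have h3 : q' • r 0 = r 0 := by
    rw [← hq', mul_smul, mul_smul, (inv_smul_eq_iff.2 hg.symm), hi, h2, hg]
  have h4 : q' • g • x = g • y := by
    rw [← hq', mul_smul, mul_smul, inv_smul_smul, hi, h1]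
  show cls (g • y) = cls (g • x)
  rw [← h4]
  exact H707.Odd.Tits.cls_smul q' h3 _

include hn hi in
theorem cls_eq (g : G) (hg : g • r 0 = r 0) (x : X) : cls (g • x) = cls x := by
  apply kk_inj
  apply le_antisymm
  · have h1 := cls_le i hi hn g⁻¹ (inv_smul_eq_iff.2 hg.symm) (g • x)
    rwa [inv_smul_smul] at h1
  · exact cls_le i hi hn g hg x

theorem E_r0 (y : X) : E (r 0) y = true ↔ cls y = 4 := by
  classical
  have hsub : ∀ y, E (r 0) y = true → cls y = 4 := by
    intro y hy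
    by_contra hc
    have h1 := count 0 (cls y)
    have h2 : ∀ j : Fin 5, j ≠ 4 → B 0 j = 0 := by decide
    rw [h2 _ hc, Finset.card_eq_zero, Finset.filter_eq_empty_iff] at h1
    exact h1 (Finset.mem_univ y) ⟨hy, rfl⟩
  refine ⟨hsub y, fun hy => ?_⟩
  have h1 : (Finset.univ.filter fun y : X => E (r 0) y = true ∧ cls y = 4) =
      Finset.univ.filter fun y : X => cls y = 4 := by
    refine Finset.eq_of_subset_of_card_le (fun z hz => ?_) ?_
    · exact Finset.mem_filter.2 ⟨Finset.mem_univ _, (Finset.mem_filter.1 hz).2.2⟩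
    · rw [count, H678.DG.Tits.card_cls]
      decide
  have h2 : y ∈ Finset.univ.filter fun y : X => E (r 0) y = true ∧ cls y = 4 := by
    rw [h1]
    exact Finset.mem_filter.2 ⟨Finset.mem_univ _, hy⟩
  exact (Finset.mem_filter.1 h2).2.1

theorem count4 (k j : Fin 5) :
    (Finset.univ.filter fun z : X => cls z = 4 ∧ cls (H707.Odd.Tits.gw k • z) = j).card = B k j := by
  rw [← count k j]
  refine Finset.card_bij (fun z _ => H707.Odd.Tits.gw k • z) ?_ (fun z _ z' _ h => smul_left_cancel _ h) ?_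
  · intro z hz
    obtain ⟨-, h1, h2⟩ := Finset.mem_filter.1 hz
    refine Finset.mem_filter.2 ⟨Finset.mem_univ _, ?_, h2⟩
    rw [← H707.Odd.Tits.gw_r, E_smul, E_r0, h1]
  · intro y hy
    obtain ⟨-, h1, h2⟩ := Finset.mem_filter.1 hy
    refine ⟨(H707.Odd.Tits.gw k)⁻¹ • y, Finset.mem_filter.2 ⟨Finset.mem_univ _, ?_, by rw [smul_inv_smul, h2]⟩,
      smul_inv_smul _ _⟩
    rw [← E_r0]
    rw [← H707.Odd.Tits.gw_r, ← E_smul (H707.Odd.Tits.gw k)⁻¹, inv_smul_smul] at h1
    exact h1

theorem count1 (k j : Fin 5) :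
    (Finset.univ.filter fun z : X => cls z = 1 ∧ cls (H707.Odd.Tits.gw k • z) = j).card = H707.Odd.Tits.B' k j := by
  rw [← H707.Odd.Tits.count k j]
  refine Finset.card_bij (fun z _ => H707.Odd.Tits.gw k • z) ?_ (fun z _ z' _ h => smul_left_cancel _ h) ?_
  · intro z hz
    obtain ⟨-, h1, h2⟩ := Finset.mem_filter.1 hz
    refine Finset.mem_filter.2 ⟨Finset.mem_univ _, ?_, h2⟩
    rw [H707.Odd.Tits.E10_r, inv_smul_smul, h1]
  · intro y hy
    obtain ⟨-, h1, h2⟩ := Finset.mem_filter.1 hy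
    refine ⟨(H707.Odd.Tits.gw k)⁻¹ • y, Finset.mem_filter.2 ⟨Finset.mem_univ _, ?_, by rw [smul_inv_smul, h2]⟩,
      smul_inv_smul _ _⟩
    exact (H707.Odd.Tits.E10_r k y).1 h1

include hn hi in
theorem rc_of (c : Fin 5) (M : Fin 5 → Fin 5 → ℕ)
    (hM : ∀ k j, (Finset.univ.filter fun z : X => cls z = c ∧ cls (H707.Odd.Tits.gw k • z) = j).card = M k j)
    (a : Fin 5 → ℚ) (t : ℚ) (hBa : ∀ k, ∑ j, (M k j : ℚ) * a j = t * a k)
    (huniq : ∀ a' : Fin 5 → ℚ, (∀ k, ∑ j, (M k j : ℚ) * a' j = t * a' k) → ∀ k, a' k = a' 0 * a k)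
    (ha : a 0 = 1) (d : ℕ) (hd : (d : ℚ) * ∑ k, (H678.DG.Tits.kk k : ℚ) * a k ^ 2 = 1755) : RC G d := by
  classical
  have htr : ∀ x, ∃ g : G, g • r 0 = r 0 ∧ g • r (cls x) = x := by
    intro x
    obtain ⟨g, h1, h2⟩ := htrT x
    exact ⟨i g, by rw [hi, h1], by rw [hi, h2]⟩
  obtain ⟨χ, hχ, hrat, hdeg⟩ := H710.R4.Sph.irr_of_orbital (G := G) (r 0) cls r (cls_eq i hi hn) htr c
    (fun k => i (H707.Odd.Tits.gw k)) (fun k => by rw [hi, H707.Odd.Tits.gw_r]) M
    (fun k j => by rw [← hM k j]; simp only [hi]) a t hBa (fun a' h => by rw [cls_r]; exact huniq a' h)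
    (by rw [cls_r]; exact ha) (fun x y => by
      obtain ⟨g, hg⟩ := H707.Odd.Tits.trans x y
      exact ⟨i g, by rw [hi, hg]⟩) H678.DG.Tits.kk H678.DG.Tits.card_cls d
    (by rw [H678.DG.Tits.card_X]; exact_mod_cast hd)
  refine RC.of_conj (χ := ⟨χ, hχ⟩) (fun g => ?_) hdeg
  obtain ⟨q, hq⟩ := hrat g
  show (starRingEnd ℂ) (χ g) = χ g
  rw [hq]
  exact Complex.conj_ofReal q

theorem huniq16 (a' : Fin 5 → ℚ) (h : ∀ i, ∑ j, (B i j : ℚ) * a' j = 16 * a' i) (i : Fin 5) :
    a' i = a' 0 * (![1, 1/10, -1/8, -1/80, 1/64] : Fin 5 → ℚ) i := by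
  have h0 := h 0
  have h1 := h 1
  have h2 := h 2
  have h3 := h 3
  have h4 := h 4
  simp only [B, Fin.sum_univ_five, Matrix.cons_val] at h0 h1 h2 h3 h4
  norm_num at h0 h1 h2 h3 h4
  fin_cases i
  · show a' 0 = a' 0 * 1
    rw [mul_one]
  · show a' 1 = a' 0 * (1 / 10)
    linarith
  · show a' 2 = a' 0 * (-1 / 8)
    linarith
  · show a' 3 = a' 0 * (-1 / 80)
    linarith
  · show a' 4 = a' 0 * (1 / 64)
    linarith

include hn hi in
theorem rc_78 : RC G 78 :=
  rc_of i hi hn 4 B count4 ![1, -1/2, 1/4, -1/8, 1/16] 64 (by decide +kernel) huniq rfl 78 (by decide +kernel)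

include hn hi in
theorem rc_650 : RC G 650 :=
  rc_of i hi hn 4 B count4 ![1, 1/10, -1/8, -1/80, 1/64] 16 (by decide +kernel) huniq16 rfl 650 (by decide +kernel)

include hn hi in
theorem rc_351 : RC G 351 :=
  rc_of i hi hn 1 H707.Odd.Tits.B' count1 ![1, 1 / 2, 1 / 8, 0, -1 / 64] 5 (by decide +kernel) H707.Odd.Tits.huniq rfl 351
    (by decide +kernel)

end G

/-! ### the row -/

theorem row_T {G : Type u} [Group G] [Finite G] {N : Subgroup G} [N.Normal]
    (hC : Subgroup.centralizer (N : Set G) = ⊥) (hidx : N.index ≤ 2) (e : T ≃* N) (hcT : ConjAll T (2 ^ 11 * 5)) :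
    R3 G N := by
  classical
  have hinj : Function.Injective (MulAction.toPermHom T X) := by
    rw [injective_iff_map_eq_one]
    intro t ht
    have hs := Cfsg.Agent.SporadicB.RuTits.isSimpleGroup_T
    rcases (MonoidHom.normal_ker (MulAction.toPermHom T X)).eq_bot_or_eq_top with h | h
    · have : t ∈ (MulAction.toPermHom T X).ker := ht
      rw [h] at this
      exact this
    · exfalso
      obtain ⟨g, hg⟩ := H707.Odd.Tits.trans (r 0) (r 1)
      have h1 : g ∈ (MulAction.toPermHom T X).ker := by rw [h]; exact Subgroup.mem_top _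
      have h2 : g • r 0 = r 0 := congrArg (fun w : Equiv.Perm X => w (r 0)) h1
      have h3 : cls (r 0) = cls (r 1) := by rw [← hg, h2]
      rw [cls_r, cls_r] at h3
      exact absurd h3 (by decide)
  let φ : T ≃* (MulAction.toPermHom T X).range := MonoidHom.ofInjective hinj
  have hφ : ∀ (t : T) (x : X), φ t • x = t • x := fun t x => rfl
  have hst : ∀ x : X, (MulAction.stabilizer T x).map φ.toMonoidHom =
      MulAction.stabilizer (MulAction.toPermHom T X).range x := by
    intro x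
    ext q
    constructor
    · rintro ⟨t, ht, rfl⟩
      exact ht
    · intro hq
      obtain ⟨t, rfl⟩ := φ.surjective q
      exact ⟨t, hq, rfl⟩
  have hQi : ∀ x y : X, MulAction.stabilizer (MulAction.toPermHom T X).range x =
      MulAction.stabilizer (MulAction.toPermHom T X).range y → x = y := by
    intro x y h
    apply stab_inj
    apply Subgroup.map_injective (f := φ.toMonoidHom) φ.injective
    show (MulAction.stabilizer T x).map φ.toMonoidHom = (MulAction.stabilizer T y).map φ.toMonoidHom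
    rw [hst, hst, h]
  have hQs : ∀ x : X, Nat.card (MulAction.stabilizer (MulAction.toPermHom T X).range x) = 2 ^ 11 * 5 := by
    intro x
    rw [← hst, ← card_stab x]
    exact (Nat.card_congr ((MulAction.stabilizer T x).equivMapOfInjective φ.toMonoidHom φ.injective).toEquiv).symm
  obtain ⟨F, hF, hx, hg⟩ := exists_act hC (cent_bot hQi) (exists_perm (hcT.of_equiv φ) hQs hQi) (φ.symm.trans e)
  letI : MulAction G X := MulAction.compHom X F
  have hi : ∀ (q : T) (x : X), ((e q : N) : G) • x = q • x := by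
    intro q x
    show F (e q : G) x = q • x
    have h1 := hx (φ q)
    have h2 : (φ.symm.trans e) (φ q) = e q := by
      show e (φ.symm (φ q)) = e q
      rw [MulEquiv.symm_apply_apply]
    rw [h2] at h1
    rw [h1]
    rfl
  have hn : ∀ (g : G) (q : T), ∃ q' : T, ∀ x : X, (g * (e q : G) * g⁻¹) • x = q' • x := by
    intro g q
    refine ⟨e.symm (MulAut.conjNormal g (e q)), fun x => ?_⟩
    rw [← hi, MulEquiv.apply_symm_apply, MulAut.conjNormal_apply]
  have hc := comm_of_index hidx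
  exact ⟨78, 650, 351, by decide, by decide, by decide, (rc_78 _ hi hn).rd hc (by decide),
    (rc_650 _ hi hn).rd hc (by decide), (rc_351 _ hi hn).rd hc (by decide)⟩

theorem isoTits_T : Lie.IsoTits T := by
  obtain ⟨e'⟩ := Cfsg.Agent.H707.RowTits.equiv
  exact ⟨e'.symm⟩

theorem conj_T : ConjAll T (2 ^ 11 * 5) := conj_of_iso isoTits_T

theorem exists_equiv {S : Type u} [Group S] (h : Cfsg.Lie.IsoTits S) : Nonempty (S ≃* T) := by
  obtain ⟨e⟩ := h
  obtain ⟨e'⟩ := Cfsg.Agent.H707.RowTits.equiv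
  exact ⟨e.trans e'⟩

end Cfsg.Agent.H494.R4.TitsAct

namespace Cfsg.Agent.H494.R4

universe u

/-- **The row of the Tits group.** -/
theorem row_tits {S : Type u} [Group S] (h : Cfsg.Lie.IsoTits S) : Cfsg.Agent.H619.R4.Row S := by
  obtain ⟨e⟩ := TitsAct.exists_equiv h
  have hout := Cfsg.Agent.H867.TitsOut.card_out_le h
  intro G _ _ N _ ⟨f⟩ hC _
  exact TitsAct.row_T hC (Cfsg.Agent.H619.R4.index_le f hC hout) (e.symm.trans f) TitsAct.conj_T

end Cfsg.Agent.H494.R4
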