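import Cfsg.Agent.H494.R4.Par
import Cfsg.Agent.H694.DTypes

/-!
# A second odd degree: the types of rank at least three in odd characteristic (helper494, S4554)
-/

set_option autoImplicit false
set_option linter.unusedSectionVars false

namespace Cfsg.Agent.H494.R4

open Cfsg Cfsg.Agent.Tits.Core Cfsg.Agent.Nodes Cfsg.Agent.H694
open Cfsg.Agent.Omega.ML.Ex.Typ (HasSplitT HasRGDT)
open Cfsg.Agent.LieRecognition.BNCox (cA)

universe u

variable {K : Type u} [Group K] [Finite K] [IsSimpleGroup K] {p : ℕ}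

/-- type `A_n`, `n ≥ 3` -/
theorem second_A (hna : ∃ a b : K, a * b ≠ b * a) (hS : IsLieTypeChar p K) {n : ℕ} (hn : 3 ≤ n) (hp : p.Prime) (hp2 : p ≠ 2) (hK : HasSplitT p (cA n) K) :
    SecondOdd p K := by
  refine second_of_splitT hna hp hp2 hS hK {i | cAd n i = 0} (j := ⟨1, by omega⟩)
    (cAd_eq_zero.2 (by simp; omega)) ?_ ?_
  · intro σ hσ
    have h1 : {i : Fin n | cAd n i = 0} = {i : Fin n | (i : ℕ) = 0 ∨ (i : ℕ) = n - 1}ᶜ := by
      ext i
      exact cAd_eq_zero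
    rw [h1]
    exact image_compl_eq σ _ fun i hi => leaf_A hn σ hσ i hi
  · intro W _ _ cs
    obtain ⟨h1, -⟩ := parity_A hn cs
    rw [h1]
    exact Nat.even_mul_succ_self n

/-- type `B_n`, `n ≥ 3` -/
theorem second_B (hna : ∃ a b : K, a * b ≠ b * a) (hS : IsLieTypeChar p K) {n : ℕ} (hn : 3 ≤ n) (hp : p.Prime) (hp2 : p ≠ 2)
    (hK : HasSplitT p (CoxeterMatrix.B n) K) : SecondOdd p K := by
  refine second_of_splitT hna hp hp2 hS hK {i | cB n i = 0} (j := ⟨1, by omega⟩)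
    (cB_eq_zero.2 (by simp)) (fun σ hσ => stable_B hn _ σ hσ) ?_
  intro W _ _ cs
  obtain ⟨h1, -⟩ := parity_B (by omega) cs
  rw [h1]
  exact even_two_mul n

/-- type `D_{n+2}`, `n ≥ 3` -/
theorem second_D (hna : ∃ a b : K, a * b ≠ b * a) (hS : IsLieTypeChar p K) {n : ℕ} (hn : 3 ≤ n) (hp : p.Prime) (hp2 : p ≠ 2)
    (hK : HasSplitT p (TypeD.M n) K) : SecondOdd p K := by
  refine second_of_splitT hna hp hp2 hS hK {i | cB (n + 2) i = 0} (j := ⟨1, by omega⟩)
    (cB_eq_zero.2 (by simp)) ?_ ?_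
  · intro σ hσ
    have h1 : {i : Fin (n + 2) | cB (n + 2) i = 0} = {i : Fin (n + 2) | (i : ℕ) = 0}ᶜ := by
      ext i
      exact cB_eq_zero
    rw [h1]
    refine image_compl_eq σ _ fun i hi => ?_
    have hi' : (i : ℕ) = 0 := hi
    rw [fix_D hn σ hσ i (by omega)]
    exact hi
  · intro W _ _ cs
    obtain ⟨h1, -⟩ := parity_D (by omega) cs
    rw [h1]
    exact even_two_mul _

/-- type `D₄` -/
theorem second_D4 (hna : ∃ a b : K, a * b ≠ b * a) (hS : IsLieTypeChar p K) (hp : p.Prime) (hp2 : p ≠ 2) (hK : HasSplitT p (TypeD.M 2) K) : SecondOdd p K := by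
  refine second_of_splitT hna hp hp2 hS hK {i | dc 34968 i = 0} (j := 0)
    (show dc 34968 _ = 0 by decide) ?_ ?_
  · intro σ hσ
    have h1 : {i : Fin (2 + 2) | dc 34968 i = 0} = {i : Fin (2 + 2) | i = 1}ᶜ := by
      ext i
      show dc 34968 i = 0 ↔ ¬ (i = 1)
      revert i
      decide
    rw [h1]
    refine image_compl_eq σ _ fun i hi => ?_
    have hi' : i = 1 := hi
    have h2 := wk_inv σ hσ 1 i
    subst hi'
    revert h2
    generalize σ 1 = x
    show wk (TypeD.M 2) 1 x = wk (TypeD.M 2) 1 1 → x = 1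
    revert x
    decide
  · intro W _ _ cs
    obtain ⟨h1, -⟩ := parity_D4 cs
    rw [h1]
    decide

/-- type `F₄` -/
theorem second_F4 (hna : ∃ a b : K, a * b ≠ b * a) (hS : IsLieTypeChar p K) (hp : p.Prime) (hp2 : p ≠ 2) (hK : HasSplitT p CoxeterMatrix.F₄ K) : SecondOdd p K := by
  refine second_of_splitT hna hp hp2 hS hK {i | dc 39049 i = 0} (j := 1)
    (show dc 39049 _ = 0 by decide) ?_ ?_
  · intro σ hσ
    have h1 : {i : Fin 4 | dc 39049 i = 0} = {i : Fin 4 | i = 0 ∨ i = 3}ᶜ := by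
      ext i
      show dc 39049 i = 0 ↔ ¬ (i = 0 ∨ i = 3)
      revert i
      decide
    rw [h1]
    refine image_compl_eq σ _ fun i hi => ?_
    show σ i = 0 ∨ σ i = 3
    have hi' : i = 0 ∨ i = 3 := hi
    clear h1 hi
    by_contra hcon
    -- the nodes `1, 2` are those with a bond of label `4`
    have h4 : ∀ x : Fin 4, ¬ (x = 0 ∨ x = 3) →
        CoxeterMatrix.F₄ x 1 = 4 ∨ CoxeterMatrix.F₄ x 2 = 4 := by decide
    obtain ⟨j, hj⟩ : ∃ j, CoxeterMatrix.F₄ (σ i) j = 4 := by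
      rcases h4 _ hcon with h5 | h5
      · exact ⟨_, h5⟩
      · exact ⟨_, h5⟩
    obtain ⟨k, rfl⟩ := σ.surjective j
    rw [hσ] at hj
    revert hj
    rcases hi' with rfl | rfl <;> revert k <;> decide
  · intro W _ _ cs
    obtain ⟨h1, -⟩ := parity_F4 cs
    rw [h1]
    decide

/-- type `E₆` -/
theorem second_E6 (hna : ∃ a b : K, a * b ≠ b * a) (hS : IsLieTypeChar p K) (hp : p.Prime) (hp2 : p ≠ 2) (hK : HasSplitT p CoxeterMatrix.E₆ K) :
    SecondOdd p K := by
  refine second_of_splitT hna hp hp2 hS hK {i | dc 8947864 i = 0} (j := 0)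
    (show dc 8947864 _ = 0 by decide) ?_ ?_
  · intro σ hσ
    have h1 : {i : Fin 6 | dc 8947864 i = 0} = {i : Fin 6 | i = 1}ᶜ := by
      ext i
      show dc 8947864 i = 0 ↔ ¬ (i = 1)
      revert i
      decide
    rw [h1]
    refine image_compl_eq σ _ fun i hi => ?_
    have hi' : i = 1 := hi
    have h2 := wk_inv σ hσ 1 i
    have h3 := wk_inv σ hσ 2 i
    subst hi'
    revert h2 h3
    generalize σ 1 = x
    show wk CoxeterMatrix.E₆ 1 x = wk CoxeterMatrix.E₆ 1 1 →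
      wk CoxeterMatrix.E₆ 2 x = wk CoxeterMatrix.E₆ 2 1 → x = 1
    revert x
    decide +kernel
  · intro W _ _ cs
    obtain ⟨h1, -⟩ := parity_E6 cs
    rw [h1]
    decide

/-- type `E₇` -/
theorem second_E7 (hna : ∃ a b : K, a * b ≠ b * a) (hS : IsLieTypeChar p K) (hp : p.Prime) (hp2 : p ≠ 2) (hK : HasSplitT p CoxeterMatrix.E₇ K) :
    SecondOdd p K := by
  refine second_of_splitT hna hp hp2 hS hK {i | dc 143165577 i = 0} (j := 1)
    (show dc 143165577 _ = 0 by decide) ?_ ?_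
  · intro σ hσ
    have h1 : {i : Fin 7 | dc 143165577 i = 0} = {i : Fin 7 | i = 0}ᶜ := by
      ext i
      show dc 143165577 i = 0 ↔ ¬ (i = 0)
      revert i
      decide
    rw [h1]
    refine image_compl_eq σ _ fun i hi => ?_
    have hi' : i = 0 := hi
    have h2 := wk_inv σ hσ 1 i
    have h3 := wk_inv σ hσ 3 i
    subst hi'
    revert h2 h3
    generalize σ 0 = x
    show wk CoxeterMatrix.E₇ 1 x = wk CoxeterMatrix.E₇ 1 0 →
      wk CoxeterMatrix.E₇ 3 x = wk CoxeterMatrix.E₇ 3 0 → x = 0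
    revert x
    decide +kernel
  · intro W _ _ cs
    obtain ⟨h1, -⟩ := parity_E7 cs
    rw [h1]
    decide

/-- type `E₈` -/
theorem second_E8 (hna : ∃ a b : K, a * b ≠ b * a) (hS : IsLieTypeChar p K) (hp : p.Prime) (hp2 : p ≠ 2) (hK : HasSplitT p CoxeterMatrix.E₈ K) :
    SecondOdd p K := by
  refine second_of_splitT hna hp hp2 hS hK {i | dc 2559084680 i = 0} (j := 0)
    (show dc 2559084680 _ = 0 by decide) ?_ ?_
  · intro σ hσ
    have h1 : {i : Fin 8 | dc 2559084680 i = 0} = {i : Fin 8 | i = 7}ᶜ := by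
      ext i
      show dc 2559084680 i = 0 ↔ ¬ (i = 7)
      revert i
      decide
    rw [h1]
    refine image_compl_eq σ _ fun i hi => ?_
    have hi' : i = 7 := hi
    have h2 := wk_inv σ hσ 1 i
    have h3 := wk_inv σ hσ 3 i
    subst hi'
    revert h2 h3
    generalize σ 7 = x
    show wk CoxeterMatrix.E₈ 1 x = wk CoxeterMatrix.E₈ 1 7 →
      wk CoxeterMatrix.E₈ 3 x = wk CoxeterMatrix.E₈ 3 7 → x = 7
    revert x
    decide +kernel
  · intro W _ _ cs
    obtain ⟨h1, -⟩ := parity_E8 cs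
    rw [h1]
    decide

end Cfsg.Agent.H494.R4
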